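import Cfsg.Agent.H570.Ore.Blk
import Cfsg.Agent.SmallSimple.BTCommon
import Cfsg.Agent.SmallSimple.DihedralNormalizer

/-!
# ORE (S2443), row B: the value at a `2`-central involution (helper570)

* `exists_k` : `f : A →* G`, `a z ∼ a` for `a ≠ 1` in `A`; then `χ(z) = χ(1) - 2 |A| k`;
* `pure_le` : `f : E →* G` with all `f e ∼ z`, `e ≠ 1`, `|E| = 64`, `χ(z) = χ(1) - 4096 m`; then `4032 m ≤ χ(1)`;
* `one_le` : `1 ≤ m` for `χ ≠ 1`, `G` simple;
* `dvd` : `χ(1) ∣ |z^G| 4096 m`.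
-/

set_option autoImplicit false
set_option linter.unusedSectionVars false

open Cfsg Subgroup
open scoped ComplexConjugate

namespace Cfsg.Agent.H570.Ore.Ext

open Cfsg.Agent.Characters.Core

universe u

variable {G : Type u} [Group G] [Finite G]

theorem val_conj (χ : IrrCharacter G) {a b : G} (h : IsConj a b) : (χ : G → ℂ) a = (χ : G → ℂ) b := by
  obtain ⟨g, rfl⟩ := isConj_iff.1 h
  exact (isIrr_isClassFunction χ.2 a g).symm

theorem exists_k {A : Type u} [Group A] [Fintype A] (f : A →* G) {z : G} (hz : z ≠ 1) (hz2 : z * z = 1)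
    (hcomm : ∀ a, f a * z = z * f a) (hconj : ∀ a, a ≠ 1 → IsConj (f a) (f a * z)) (χ : IrrCharacter G) :
    ∃ k : ℤ, (χ : G → ℂ) z = (charDegree (χ : G → ℂ) : ℂ) - 2 * Nat.card A * k := by
  classical
  have := Fintype.ofFinite (zpowers z)
  have ho : orderOf z = 2 := orderOf_eq_prime (by rw [pow_two]; exact hz2) hz
  have hc2 : Nat.card (zpowers z) = 2 := by rw [Nat.card_zpowers, ho]
  have hcm : ∀ (a : A) (k : zpowers z), Commute (f a) ((zpowers z).subtype k) := by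
    rintro a ⟨_, i, rfl⟩
    exact (show Commute (f a) z from hcomm a).zpow_right i
  obtain ⟨u, hu⟩ := Blk.exists_sum_hom χ f
  obtain ⟨v, hv⟩ := Blk.exists_sum_hom χ (f.noncommCoprod (zpowers z).subtype hcm)
  have hne : (1 : zpowers z) ≠ ⟨z, mem_zpowers z⟩ := fun h => hz (congrArg Subtype.val h).symm
  have huniv : (Finset.univ : Finset (zpowers z)) = {1, ⟨z, mem_zpowers z⟩} := by
    symm
    refine Finset.eq_univ_of_card _ ?_
    rw [Finset.card_pair hne, ← Nat.card_eq_fintype_card, hc2]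
  have hsplit : ∑ x : Prod A (zpowers z), (χ : G → ℂ) ((f.noncommCoprod (zpowers z).subtype hcm) x) =
      ∑ x : A, (χ : G → ℂ) (f x) + ∑ x : A, (χ : G → ℂ) (f x * z) := by
    rw [Fintype.sum_prod_type_right, huniv, Finset.sum_pair hne]
    congr 1
    refine Finset.sum_congr rfl fun x _ => ?_
    simp [MonoidHom.noncommCoprod_apply]
  rw [hsplit, Nat.card_prod, hc2] at hv
  have h1 : ∑ x : A, (χ : G → ℂ) (f x * z) = (χ : G → ℂ) z + (∑ x : A, (χ : G → ℂ) (f x) - charDegree (χ : G → ℂ)) := by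
    rw [← Finset.add_sum_erase _ _ (Finset.mem_univ (1 : A)), ← Finset.add_sum_erase _ (fun x => (χ : G → ℂ) (f x))
      (Finset.mem_univ (1 : A)), map_one, one_mul, Blk.deg_cast, add_sub_cancel_left]
    congr 1
    exact Finset.sum_congr rfl fun x hx => (val_conj χ (hconj x (Finset.ne_of_mem_erase hx))).symm
  rw [h1, hu] at hv
  refine ⟨(u : ℤ) - v, ?_⟩
  push_cast at hv ⊢
  linear_combination hv

theorem pure_le {E : Type u} [Group E] [Fintype E] (hE : Nat.card E = 64) (f : E →* G) {z : G}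
    (hconj : ∀ a, a ≠ 1 → IsConj (f a) z) (χ : IrrCharacter G) {m : ℤ}
    (hm : (χ : G → ℂ) z = (charDegree (χ : G → ℂ) : ℂ) - 4096 * m) : 4032 * m ≤ charDegree (χ : G → ℂ) := by
  classical
  obtain ⟨w, hw⟩ := Blk.exists_sum_hom χ f
  have h1 : ∑ x : E, (χ : G → ℂ) (f x) = charDegree (χ : G → ℂ) + 63 * (χ : G → ℂ) z := by
    rw [← Finset.add_sum_erase _ _ (Finset.mem_univ (1 : E)), map_one, Blk.deg_cast]
    congr 1
    rw [Finset.sum_congr rfl fun x hx => val_conj χ (hconj x (Finset.ne_of_mem_erase hx)), Finset.sum_const,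
      Finset.card_erase_of_mem (Finset.mem_univ _), Finset.card_univ, ← Nat.card_eq_fintype_card, hE, nsmul_eq_mul]
    norm_num
  rw [h1, hm, hE] at hw
  have h2 : ((64 * (charDegree (χ : G → ℂ) - 4032 * m) : ℤ) : ℂ) = ((64 * w : ℤ) : ℂ) := by
    push_cast
    push_cast at hw
    linear_combination hw
  have h3 : (64 * (charDegree (χ : G → ℂ) - 4032 * m) : ℤ) = 64 * w := by exact_mod_cast h2
  omega

theorem norm_le (χ : IrrCharacter G) (x : G) : ‖(χ : G → ℂ) x‖ ≤ charDegree (χ : G → ℂ) := by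
  have h0 := Blk.deg_cast χ
  obtain ⟨m, ρ, h⟩ := isIrr_isCharacter χ.2
  have h1 := Characters.Values.norm_character_le ρ x
  have h2 : ρ.character 1 = (Module.finrank ℂ (Fin m → ℂ) : ℂ) := Representation.char_one ρ
  rw [h] at h1 h2
  rw [h0] at h2
  have h3 : charDegree (χ : G → ℂ) = Module.finrank ℂ (Fin m → ℂ) := by exact_mod_cast h2
  rw [h3]
  exact h1

theorem one_le [IsSimpleGroup G] {χ : IrrCharacter G} (hχ : (χ : G → ℂ) ≠ 1) {z : G} (hz : z ≠ 1)
    {c : ℤ} (hc : 0 < c) {k : ℤ} (hk : (χ : G → ℂ) z = (charDegree (χ : G → ℂ) : ℂ) - c * k) : 1 ≤ k := by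
  have := Fintype.ofFinite G
  by_contra hlt
  have hk0 : k ≤ 0 := by omega
  have h1 : ‖(χ : G → ℂ) z‖ ≤ charDegree (χ : G → ℂ) := by
    exact norm_le χ z
  have h2 : (χ : G → ℂ) z = ((charDegree (χ : G → ℂ) - c * k : ℤ) : ℂ) := by rw [hk]; push_cast; ring
  rw [h2, Complex.norm_intCast] at h1
  have h3 : |(charDegree (χ : G → ℂ) - c * k : ℤ)| ≤ charDegree (χ : G → ℂ) := by exact_mod_cast h1
  have h4 := (abs_le.1 h3).2
  have h5 : c * k = 0 := by nlinarith
  apply hz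
  refine SmallSimple.DihedralNormalizer.eq_one_of_apply_eq χ.2 hχ ?_
  rw [h2, h5, sub_zero, Blk.deg_cast]
  simp

theorem dvd [IsSimpleGroup G] {χ : IrrCharacter G} {z : G} {N c k : ℕ}
    (hN : (centralizer ({z} : Set G)).index = N)
    (hk : (χ : G → ℂ) z = (charDegree (χ : G → ℂ) : ℂ) - c * k) : charDegree (χ : G → ℂ) ∣ N * c * k := by
  have h1 := SmallSimple.BTCommon.dg_dvd_index_mul χ z (charDegree (χ : G → ℂ) - c * k : ℤ) (by rw [hk]; push_cast; ring)
  rw [hN] at h1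
  have h0 : SmallSimple.BTData.dg χ = charDegree (χ : G → ℂ) := by
    have h := (SmallSimple.BTData.apply_one χ).symm.trans (Blk.deg_cast χ)
    exact_mod_cast h
  rw [h0] at h1
  have h2 : (charDegree (χ : G → ℂ) : ℤ) ∣ N * (charDegree (χ : G → ℂ) - c * k) := h1
  have h3 : (charDegree (χ : G → ℂ) : ℤ) ∣ ((N * c * k : ℕ) : ℤ) := by
    have h4 : ((N * c * k : ℕ) : ℤ) = N * charDegree (χ : G → ℂ) - N * (charDegree (χ : G → ℂ) - c * k) := by
      push_cast; ring
    rw [h4]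
    exact dvd_sub (dvd_mul_left _ _) h2
  exact_mod_cast h3

end Cfsg.Agent.H570.Ore.Ext
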