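import Cfsg.Agent.H570.Ore.Num
import Cfsg.Agent.H570.Ore.Ext
import Cfsg.Agent.H65.Ore.Split
import Cfsg.Agent.H511.Ore.Tools

/-!
# ORE (S2443), row B: the degree bounds and T1 from the local data (helper570)

`Dt G Z` : the local data of the Baby Monster; `deg` : the bounds `364344` (`χ(1) ≡ ± 1 (31)`), `2337075` (`χ(1) ≡ ± 15 (31)`);
`t1` : all elements with `|C(g)| ≤ 7700000000` are commutators.
-/

set_option autoImplicit false

open Cfsg Subgroup
open scoped ComplexConjugate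

namespace Cfsg.Agent.H570.Ore.Abs

open Cfsg.Agent.Characters.Core Cfsg.Agent.H570.Ore.Num
open Cfsg.Agent.SmallSimple.ThetaSetup Cfsg.Agent.SmallSimple.PrimeLocal
open Cfsg.Agent.H653.Sieve Cfsg.Agent.H651.Two

universe u

/-- the order -/
abbrev NB : ℕ := 4154781481226426191177580544000000

/-- The local data of the Baby Monster. -/
structure Dt (G : Type u) [Group G] [Finite G] (Z : G) : Prop where
  card : Nat.card G = NB
  nonab : ¬ IsMulCommutative G
  Z_ne : Z ≠ 1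
  Z_sq : Z * Z = 1
  idx : (centralizer ({Z} : Set G)).index = 11707448673375
  ext : ∀ χ : IrrCharacter G, ∃ k : ℤ, (χ : G → ℂ) Z = (charDegree (χ : G → ℂ) : ℂ) - 4096 * k
  pure : ∀ (χ : IrrCharacter G) (k : ℤ), (χ : G → ℂ) Z = (charDegree (χ : G → ℂ) : ℂ) - 4096 * k →
    4032 * k ≤ charDegree (χ : G → ℂ)
  x47 : ∃ x : G, orderOf x = 47 ∧ Nat.card (centralizer ({x} : Set G)) = 47
  x31 : ∃ x : G, orderOf x = 31 ∧ Nat.card (centralizer ({x} : Set G)) = 31
  x23 : ∃ x : G, orderOf x = 23 ∧ x * Z = Z * x ∧ Nat.card (centralizer ({x} : Set G)) = 46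
  x19 : ∃ x : G, orderOf x = 19 ∧ Nat.card (centralizer ({x} : Set G)) = 38
  x17 : ∃ x : G, orderOf x = 17 ∧ Nat.card (centralizer ({x} : Set G)) = 68

theorem isComp_of_local {G : Type u} [Group G] [Finite G] {p : ℕ} [hp : Fact p.Prime] {P : Sylow p G} {K : Subgroup G}
    {e : ℕ} (h : IsLocal p P e K) : IsComp p (P : Subgroup G) K := by
  intro y
  rw [h.mem_iff]
  refine and_congr_right fun hy => ⟨fun h1 h2 => h.not_dvd (h2.trans (orderOf_dvd_of_pow_eq_one h1)),
    fun h1 => ?_⟩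
  have h2 : orderOf y ∣ p * Nat.card K := by
    rw [← h.card_centralizer]
    exact Subgroup.orderOf_dvd_natCard _ hy
  have h3 : (orderOf y).Coprime p := ((hp.out.coprime_iff_not_dvd).2 h1).symm
  exact orderOf_dvd_iff_pow_eq_one.1 (h3.dvd_of_dvd_mul_left h2)

/-- the data of an element of prime order -/
theorem exists_blk {G : Type u} [Group G] [Finite G] [IsSimpleGroup G] (hG : ¬ IsMulCommutative G) {p : ℕ}
    [hp : Fact p.Prime] {N : ℕ} (hN : Nat.card G = N) {x : G} (hx : orderOf x = p) {k : ℕ}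
    (hc : Nat.card (centralizer ({x} : Set G)) = p * k)
    (e t : ℕ) (wl : List (ℕ × ℤ)) (c : ℤ) (b : Bool) (hnum : numOK N p k e t wl c b = true) :
    ∃ (P : Sylow p G) (K : Subgroup G), IsComp p (P : Subgroup G) K ∧ Nat.card P = p ∧ (P : Subgroup G) = zpowers x ∧
      p ≠ 2 ∧ e * t = p - 1 ∧
      (centralizer ((P : Subgroup G) : Set G)).relIndex (normalizer ((P : Subgroup G) : Set G)) = e ∧ Nat.card K = k := by
  obtain ⟨P, hP, hPx, hp2, ht, he, hCP⟩ := H511.Ore.exists_sylow hG hN hx hc e t wl c b hnum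
  simp only [numOK, Bool.and_eq_true, bne_iff_ne, beq_iff_eq, ne_eq] at hnum
  obtain ⟨⟨⟨⟨⟨⟨-, hN0⟩, hN1⟩, -⟩, -⟩, -⟩, -⟩ := hnum
  have h1 : p ∣ Nat.card G := by rw [hN]; exact Nat.dvd_of_mod_eq_zero hN0
  have h2 : ¬ p ^ 2 ∣ Nat.card G := by
    rw [hN]; exact fun h => hN1 (Nat.mod_eq_zero_of_dvd h)
  obtain ⟨e', K, hL⟩ := exists_local hG h1 h2 P
  refine ⟨P, K, isComp_of_local hL, hP, hPx, hp2, ht, he, ?_⟩
  have h3 : p * Nat.card K = p * k := by rw [← hL.card_centralizer]; exact hCP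
  exact Nat.eq_of_mul_eq_mul_left hp.out.pos h3

theorem mod_zero {p n : ℕ} (h : (p : ℤ) ∣ (n : ℤ)) : n % p = 0 := Nat.mod_eq_zero_of_dvd (by exact_mod_cast h)

theorem mod_sub {p n a : ℕ} (h : (p : ℤ) ∣ (n : ℤ) - a) (ha : a < p) : n % p = a := H65.Ore.mod_of_dvd_sub h ha

theorem mod_add {p n a : ℕ} (h : (p : ℤ) ∣ (n : ℤ) + a) (ha : 0 < a) (ha' : a < p) : n % p = p - a :=
  H65.Ore.mod_of_dvd_add h ha ha'

variable {G : Type u} [Group G] [Finite G] [IsSimpleGroup G] {Z : G}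

omit [IsSimpleGroup G] in
/-- the residues at a prime `p` with `C(P) = P × K`, `|K| ≤ 2` -/
theorem res {p : ℕ} [hp : Fact p.Prime] {P : Sylow p G} {K : Subgroup G} (hK : IsComp p (P : Subgroup G) K)
    (hP : Nat.card P = p) (hK2 : Nat.card K ≤ 2) (hp2 : p ≠ 2) {e t : ℕ}
    (he : (centralizer ((P : Subgroup G) : Set G)).relIndex (normalizer ((P : Subgroup G) : Set G)) = e)
    (ht : e * t = p - 1) (ho : Odd e) (hep : e < p) (χ : IrrCharacter G) :
    (r3 p (charDegree (χ : G → ℂ)) = true ∨ r2 p e (charDegree (χ : G → ℂ)) = true) ∧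
      ((∀ x : G, orderOf x = p → conj ((χ : G → ℂ) x) = (χ : G → ℂ) x) → r3 p (charDegree (χ : G → ℂ)) = true) := by
  have hp1 := hp.out.one_lt
  have he0 : 0 < e := ho.pos
  rcases Blk.residue hK hP hK2 he ht χ with h | h | h | ⟨h, h'⟩
  · have h1 : r3 p (charDegree (χ : G → ℂ)) = true := r3_spec (Or.inl (mod_zero h))
    exact ⟨Or.inl h1, fun _ => h1⟩
  · have h1 : r3 p (charDegree (χ : G → ℂ)) = true := r3_spec (Or.inr (Or.inl (mod_sub (a := 1) (by exact_mod_cast h) hp1)))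
    exact ⟨Or.inl h1, fun _ => h1⟩
  · have h1 : r3 p (charDegree (χ : G → ℂ)) = true :=
      r3_spec (Or.inr (Or.inr (mod_add (a := 1) (by exact_mod_cast h) one_pos hp1)))
    exact ⟨Or.inl h1, fun _ => h1⟩
  · refine ⟨Or.inr (r2_spec.1 ?_), fun hr => ?_⟩
    · rcases h with h | h
      · exact Or.inl (mod_sub h hep)
      · exact Or.inr (mod_add h he0 hep)
    · obtain ⟨x, hx, hne⟩ := h' ho hp2
      exact absurd (hr x (Blocks.CyclicOrtho.orderOf_eq P hP x.2 fun h => hx (Subtype.ext h))) hne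

/-- the characters `χ(1) ≡ ± 15 (31)` are real off the elements of order divisible by 31 -/
theorem real31 (D : Dt G Z) (χ : IrrCharacter G) (h : r2 31 15 (charDegree (χ : G → ℂ)) = true) {x : G}
    (hx : ¬ 31 ∣ orderOf x) : conj ((χ : G → ℂ) x) = (χ : G → ℂ) x := by
  classical
  have hp : Nat.Prime 31 := by norm_num
  have hF : Fact (Nat.Prime 31) := ⟨hp⟩
  obtain ⟨x31, hx31, hc31⟩ := D.x31
  obtain ⟨NE, X, h31⟩ := H65.Ore.exists_dat D.nonab hp D.card hx31 hc31 15 2 143 (by decide +kernel)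
  have hmem : ∀ ψ : IrrCharacter G, charDegree (ψ : G → ℂ) = charDegree (χ : G → ℂ) → ψ ∈ X := by
    intro ψ hψ
    have h1 := r2_spec.2 h
    rw [← hψ] at h1
    by_contra hX
    by_cases hNE : ψ ∈ NE
    · have h2 := h31.ne_deg ψ hNE
      omega
    · have h2 : ¬ ψ ∈ X := hX
      -- defect zero
      have hpg : IsPGroup 31 (zpowers x31) := IsPGroup.of_card (n := 1) (by rw [Nat.card_zpowers, hx31, pow_one])
      have h4 : Nat.card (zpowers x31) = 31 := by rw [Nat.card_zpowers, hx31]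
      have hidx : ¬ 31 ∣ (zpowers x31).index := by
        intro h5
        have h6 : 31 ^ 2 ∣ Nat.card G := by
          rw [← (zpowers x31).card_mul_index, h4, pow_two]
          exact Nat.mul_dvd_mul_left 31 h5
        rw [D.card] at h6
        revert h6
        norm_num
      let P : Sylow 31 G := hpg.toSylow hidx
      have h3 : (31 : ℤ) ∣ charDegree (ψ : G → ℂ) := by
        refine Blk.deg_zero (P := P) (by exact h4) fun y hy => h31.off ψ hNE h2 y ?_
        exact Blocks.CyclicOrtho.orderOf_eq P (by exact h4) y.2 fun h => hy (Subtype.ext h)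
      have h6 : 31 ∣ charDegree (ψ : G → ℂ) := by exact_mod_cast h3
      omega
  let χ' : IrrCharacter G := ⟨fun g => conj ((χ : G → ℂ) g), isIrr_conj χ.2⟩
  have hdeg : charDegree (χ' : G → ℂ) = charDegree (χ : G → ℂ) := by
    have h1 := Blk.deg_cast χ'
    have h2 : (χ' : G → ℂ) 1 = (charDegree (χ : G → ℂ) : ℂ) := by
      show conj ((χ : G → ℂ) 1) = _
      rw [Blk.deg_cast]; simp
    rw [h2] at h1
    exact_mod_cast h1.symm
  exact h31.eq_of χ' (hmem χ' hdeg) χ (hmem χ rfl) x hx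

theorem deg (D : Dt G Z) (χ : IrrCharacter G) (hχ : (χ : G → ℂ) ≠ 1) :
    (r2 31 1 (charDegree (χ : G → ℂ)) = true → 364344 ≤ charDegree (χ : G → ℂ)) ∧
      (r2 31 15 (charDegree (χ : G → ℂ)) = true → 2337075 ≤ charDegree (χ : G → ℂ)) := by
  have hdvd : charDegree (χ : G → ℂ) ∣ NB := by rw [← D.card]; exact H511.Ore.charDegree_dvd χ
  have hn1 : charDegree (χ : G → ℂ) ≠ 1 := by
    have := H511.Ore.two_le_charDegree D.nonab χ hχ
    omega
  obtain ⟨k, hk⟩ := D.ext χ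
  have hk1 : 1 ≤ k := Ext.one_le hχ D.Z_ne (c := 4096) (by norm_num) (by rw [hk]; push_cast; ring)
  obtain ⟨m, rfl⟩ := Int.eq_ofNat_of_zero_le (by omega : 0 ≤ k)
  have hm1 : 1 ≤ m := by exact_mod_cast hk1
  have hm : 4032 * m ≤ charDegree (χ : G → ℂ) := by exact_mod_cast D.pure χ m hk
  have hd : charDegree (χ : G → ℂ) ∣ 47953709766144000 * m := by
    have h1 := Ext.dvd (χ := χ) (c := 4096) (k := m) D.idx (by rw [hk]; push_cast; ring)
    have h2 : 11707448673375 * 4096 * m = 47953709766144000 * m := by norm_num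
    rwa [h2] at h1
  -- 47
  have hF47 : Fact (Nat.Prime 47) := ⟨by norm_num⟩
  have hF23 : Fact (Nat.Prime 23) := ⟨by norm_num⟩
  obtain ⟨x47, hx47, hc47⟩ := D.x47
  obtain ⟨P, K, hK, hP, -, hp2, ht, he, hKc⟩ := exists_blk D.nonab D.card hx47 (k := 1) (by rw [hc47])
    23 2 [(0, 0), (1, 2), (46, -2), (23, -1), (24, 1)] 2 true (by decide +kernel)
  obtain ⟨h47, h47'⟩ := res hK hP (by omega) hp2 he ht (by decide) (by norm_num) χ
  -- 23
  obtain ⟨x23, hx23, hxZ, hc23⟩ := D.x23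
  obtain ⟨P', K', hK', hP', hPx', hp2', ht', he', hKc'⟩ := exists_blk D.nonab D.card hx23 (k := 2) (by rw [hc23])
    11 2 [(0, 0), (1, 2), (22, -2), (11, -1), (12, 1)] 0 false (by decide +kernel)
  obtain ⟨h23, h23'⟩ := res hK' hP' (by omega) hp2' he' ht' (by decide) (by norm_num) χ
  have hZK : Z ∈ K' := by
    rw [hK' Z]
    refine ⟨?_, ?_⟩
    · rw [hPx', mem_centralizer_iff]
      rintro _ ⟨i, rfl⟩
      exact ((show Commute x23 Z from hxZ).zpow_left i).eq
    · intro h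
      have h1 : orderOf Z ∣ 2 := orderOf_dvd_of_pow_eq_one (by rw [pow_two]; exact D.Z_sq)
      have h2 := h.trans h1
      revert h2
      norm_num
  have hm23 : m % 23 = 0 ∨ m % 23 = charDegree (χ : G → ℂ) % 23 := by
    have h1 := Blk.mod_invol hK' hP' hKc' hZK D.Z_ne he' ht' χ
      (c := (charDegree (χ : G → ℂ) : ℤ) - 4096 * m) (by rw [hk]; push_cast; ring)
    have e23 : ((23 : ℕ) : ℤ) = 23 := rfl
    rw [e23] at h1
    rcases h1 with ⟨h1, h2⟩ | h1 | h1
    · left; omega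
    · left; omega
    · right; omega
  -- 19 and 17
  have h19 : r3 19 (charDegree (χ : G → ℂ)) = true := by
    obtain ⟨x, hx, hc⟩ := D.x19
    have h1 := H511.Ore.res_of_has D.nonab D.card (c := ⟨19, 2, 18, 1, [(0, 0), (1, 1), (18, -1)], 0, false⟩)
      ⟨by norm_num, x, hx, hc.trans (by norm_num)⟩ (by decide +kernel) χ
    simp only [List.any_cons, List.any_nil, Bool.or_false, Bool.or_eq_true, Nat.beq_eq] at h1
    exact r3_spec h1
  have h17 : r3 17 (charDegree (χ : G → ℂ)) = true ∨ r2 17 2 (charDegree (χ : G → ℂ)) = true := by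
    obtain ⟨x, hx, hc⟩ := D.x17
    have h1 := H511.Ore.res_of_has D.nonab D.card
      (c := ⟨17, 4, 16, 1, [(0, 0), (1, 1), (16, -1), (2, 2), (15, -2)], 0, false⟩)
      ⟨by norm_num, x, hx, hc.trans (by norm_num)⟩ (by decide +kernel) χ
    simp only [List.any_cons, List.any_nil, Bool.or_false, Bool.or_eq_true, Nat.beq_eq] at h1
    rcases h1 with h1 | h1 | h1 | h1 | h1
    · exact Or.inl (r3_spec (Or.inl h1))
    · exact Or.inl (r3_spec (Or.inr (Or.inl h1)))
    · exact Or.inl (r3_spec (Or.inr (Or.inr h1)))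
    · exact Or.inr (r2_spec.1 (Or.inl h1))
    · exact Or.inr (r2_spec.1 (Or.inr h1))
  refine num hdvd hn1 h47 h23 h19 h17 (fun h => ?_) hm1 hm hd hm23
  exact ⟨h47' fun x hx => real31 D χ h (by rw [hx]; norm_num), h23' fun x hx => real31 D χ h (by rw [hx]; norm_num)⟩

/-- **T1.** -/
theorem t1 (D : Dt G Z) : H511.Ore.T1 G 7700000000 := by
  intro g hg
  obtain ⟨x31, hx31, hc31⟩ := D.x31
  exact H65.Ore.comm_all D.nonab (by norm_num : Nat.Prime 31) D.card hx31 hc31 15 2 143 (by decide +kernel)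
    (DN := 364344) (DX := 2337075)
    (fun χ hχ h => (deg D χ hχ).1 (r2_spec.1 h)) (fun χ hχ h => (deg D χ hχ).2 (r2_spec.1 h))
    (by norm_num) (by norm_num) hg

end Cfsg.Agent.H570.Ore.Abs
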