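import Cfsg.Agent.H570.Ore.Ext
import Cfsg.Agent.H861.PiS.BabyOrb

/-!
# ORE (S2443), row B: the value at `z` in the model (helper570)

`z = zz A` the centre of `Q = 2^{1+22}`.
* `ext` : `χ(z) = χ(1) - 4096 k`;
* `pure` : `4032 k ≤ χ(1)`.
-/

set_option autoImplicit false
set_option maxRecDepth 100000

namespace Cfsg.Agent.H570.Ore.Model

open Cfsg
open Cfsg.Agent.Monster Cfsg.Agent.Monster.VecEngine Cfsg.Agent.Monster.VecSpace
open Cfsg.Agent.Monster.PauliBasic Cfsg.Agent.Monster.PauliRep Cfsg.Agent.Monster.PauliClif Cfsg.Agent.Monster.PauliBits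
open Cfsg.Agent.BabyM Cfsg.Agent.BabyM.QAct Cfsg.Agent.BabyM.Model Cfsg.Agent.BabyM.Conc Cfsg.Agent.BabyM.KTab
open Cfsg.Agent.BabyM.KRow Cfsg.Agent.BabyM.KQ Cfsg.Agent.BabyM.KRowData Cfsg.Agent.BabyM.QIrrInst
open Cfsg.Agent.BabyU.Clos Cfsg.Agent.BabyU.ClosLaneTab Cfsg.Agent.BabyU.ClosLane
open Cfsg.Agent.KFacts.Baby.Inst (form_zero form_of)
open Cfsg.Agent.H861.PiS.BabyOrb

/-- the Pauli group in `M.G` -/
noncomputable def RG : Pauli 11 →* Inst.M.G :=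
  Cd.R.codRestrict Inst.M.G fun x => A.C_le_G (A.grp.Q_le (R_mem_Q x))

/-- the central involution of `Q` -/
noncomputable abbrev Z : Inst.M.G := Cfsg.Agent.BabyU.ClosModel.zz A

theorem RG_z : RG (Pauli.z 11) = Z := Subtype.ext z_R.symm

theorem Z_ne : Z ≠ 1 := Cfsg.Agent.BabyU.ClosModel.z_ne A

theorem Z_sq : Z * Z = 1 := by
  rw [← RG_z, ← map_mul, Pauli.z_sq, map_one]

/-- `x ∼ x z` -/
theorem conj_z {x : Pauli 11} (h : ¬ (x.a = 0 ∧ x.b = 0)) : IsConj (RG x) (RG x * Z) := by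
  rw [← Pauli.mem_center_iff, Subgroup.mem_center_iff] at h
  push Not at h
  obtain ⟨y, hy⟩ := h
  have h1 : Pauli.form y x = 1 := by
    rcases zmod2_cases (Pauli.form y x) with h2 | h2
    · exact absurd ((Pauli.commute_iff y x).2 h2) hy
    · exact h2
  refine isConj_iff.2 ⟨RG y, ?_⟩
  rw [← RG_z, ← map_mul, ← map_mul, ← map_inv, ← map_mul, Pauli.conj_eq, h1, Pauli.mul_z]

/-- the `X`-part -/
def fX : Multiplicative (B 11) →* Pauli 11 where
  toFun a := ⟨0, a.toAdd, 0⟩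
  map_one' := rfl
  map_mul' a b := by
    ext i
    · simp
    · simp
    · simp

theorem ext (χ : IrrCharacter Inst.M.G) :
    ∃ k : ℤ, (χ : Inst.M.G → ℂ) Z = (charDegree (χ : Inst.M.G → ℂ) : ℂ) - 4096 * k := by
  have := A.finite_G
  obtain ⟨k, hk⟩ := Ext.exists_k (RG.comp fX) Z_ne Z_sq (fun a => by
    have h : fX a * Pauli.z 11 = Pauli.z 11 * fX a := by rw [Pauli.mul_z, Pauli.z_mul]
    show RG (fX a) * Z = Z * RG (fX a)
    rw [← RG_z, ← map_mul, ← map_mul, h]) (fun a ha => conj_z (x := fX a) (fun h => ha h.1)) χ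
  refine ⟨k, ?_⟩
  rw [hk]
  have h1 : Nat.card (Multiplicative (B 11)) = 2048 := by
    rw [Nat.card_eq_fintype_card, Fintype.card_multiplicative, Fintype.card_pi]
    simp [ZMod.card]
  rw [h1]
  push_cast
  ring

/-! ### Conjugates of `z` in `Q` -/

theorem conj_Z_xc : IsConj Z (RG xc) := by
  refine isConj_iff.2 ⟨⟨Inst.M.τ, A.τ_mem_G⟩, Subtype.ext ?_⟩
  exact Cfsg.Agent.KFacts.Baby.Inst.z'_eq

theorem conj_of_smul {c : Inst.M.C} {x : Pauli 11} (h : c • cl' xc = cl' x) (hx : ¬ (x.a = 0 ∧ x.b = 0)) :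
    IsConj Z (RG x) := by
  rw [smul_cl, cl_eq] at h
  have h1 : IsConj (RG xc) (RG (al c xc)) := by
    refine isConj_iff.2 ⟨⟨c, A.C_le_G c.2⟩, Subtype.ext ?_⟩
    exact al_spec c xc
  have h2 : IsConj Z (RG (al c xc)) := conj_Z_xc.trans h1
  rcases R_eq_or h with h3 | h3
  · have h4 : RG (al c xc) = RG x := Subtype.ext h3
    rwa [h4] at h2
  · have h4 : RG (al c xc) = RG x * Z := Subtype.ext h3
    rw [h4] at h2
    exact h2.trans (conj_z hx).symm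

theorem conj_of_pair {p q : Pauli 11} (hp : p ∈ PP) (hq : q ∈ PP) (hcomm : p * q = q * p) (hne : ab p ≠ ab q) :
    ∃ c : Inst.M.C, c • cl' xc = cl' (p * q) := by
  obtain ⟨c1, hc1⟩ := trans_a hp
  have hc1' : ab (al c1 xa) = ab p := by rw [← cl_eq, ← smul_cl]; exact hc1
  obtain ⟨y, hy⟩ : ∃ y, y = al c1⁻¹ q := ⟨_, rfl⟩
  have hyP : y ∈ PP := by rw [hy]; exact al_P _ hq
  have hyy : al c1 y = q := by rw [hy, ← al_mul, mul_inv_cancel, al_one]
  have hyc : y * xa = xa * y := by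
    rw [← comm_al (c := c1), hyy]
    exact comm_congr rfl hc1'.symm hcomm.symm
  have hyn : ab y ≠ ab xa := by
    intro h
    have h1 := ab_aut_congr (al c1) h
    rw [hyy, hc1'] at h1
    exact hne h1.symm
  obtain ⟨c2, hc2, hc3⟩ := trans_b hyP hyc hyn
  have k1 : (c1 * c2) • cl' xa = cl' p := by rw [mul_smul, hc2]; exact hc1
  have k2 : (c1 * c2) • cl' xb = cl' q := by rw [mul_smul, hc3, smul_cl, hyy]
  refine ⟨c1 * c2, ?_⟩
  rw [smul_c, cl_eq, ab_mul, ab_mul]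
  rw [smul_cl, cl_eq] at k1 k2
  rw [k1, k2]

/-! ### The pure group -/

/-- the classes -/
def L32 : List ℕ := [0x0, 0x3, 0x5, 0x6, 0x1b1, 0x1b2, 0x1b4, 0x1b7, 0x201, 0x202, 0x204, 0x207, 0x3b0, 0x3b3, 0x3b5,
  0x3b6, 0x400, 0x403, 0x405, 0x406, 0x5b1, 0x5b2, 0x5b4, 0x5b7, 0x601, 0x602, 0x604, 0x607, 0x7b0, 0x7b3, 0x7b5, 0x7b6]

/-- the lanes used -/
def V2 : List ℕ := [0x1, 0x2, 0x4, 0x1b3, 0x200, 0x3b4, 0x401, 0x402, 0x404, 0x5b3, 0x600, 0x7b4]

def V6 : List ℕ := [0x1, 0x2, 0x4, 0x1b3, 0x200, 0x3b4]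

theorem xor_chk : ∀ a ∈ L32, ∀ b ∈ L32, a ^^^ b ∈ L32 := by decide +kernel

theorem pair_chk : ∀ c ∈ L32, c = 0 ∨ ∃ p ∈ V2, ∃ q ∈ V2, p ≠ q ∧ p ^^^ q = c ∧ Nat.beq (mulK p q) (mulK q p) = true := by
  decide +kernel

theorem V2_chk : ∀ p ∈ V2, p < 2 ^ 11 ∧ ∃ a ∈ VL, p = a ∨ p = a ^^^ 0x400 := by decide +kernel

theorem L32_lt : ∀ c ∈ L32, c < 2 ^ 11 := by decide +kernel

theorem dec_PP {p : ℕ} (hp : p ∈ V2) : dec 11 p ∈ PP := by
  obtain ⟨-, a, ha, h⟩ := V2_chk p hp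
  obtain ⟨⟨i, hi, ei⟩, k, hk, ek⟩ := exists_lane ha
  rcases h with rfl | rfl
  · exact ⟨i, hi, by rw [← ei]; rfl⟩
  · exact ⟨k, hk, by rw [← ek]; rfl⟩

/-- **The `2B`-pure group.** -/
def E : Subgroup (Pauli 11) where
  carrier := {x | x.a = 0 ∧ ∃ c ∈ L32, x.b = vec 11 c}
  one_mem' := ⟨rfl, 0, by decide, by rw [vec_zero]; rfl⟩
  mul_mem' := by
    rintro x y ⟨hx, c, hc, hxb⟩ ⟨hy, d, hd, hyb⟩
    refine ⟨by rw [Pauli.mul_a, hx, hy, add_zero], c ^^^ d, xor_chk c hc d hd, ?_⟩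
    rw [Pauli.mul_b, hxb, hyb, vec_xor]
  inv_mem' := by
    rintro x ⟨hx, c, hc, hxb⟩
    exact ⟨by rw [Pauli.inv_a, hx], c, hc, by rw [Pauli.inv_b, hxb]⟩

theorem vec_inj {c d : ℕ} (hc : c < 2 ^ 11) (hd : d < 2 ^ 11) (h : vec 11 c = vec 11 d) : c = d := by
  rw [← idx_vec hc, ← idx_vec hd, h]

theorem card_E : Nat.card E = 64 := by
  have e : E ≃ ZMod 2 × {c // c ∈ L32.toFinset} := (Equiv.ofBijective
    (fun p : ZMod 2 × {c // c ∈ L32.toFinset} => (⟨⟨p.1, 0, vec 11 p.2⟩, rfl, p.2, List.mem_toFinset.1 p.2.2, rfl⟩ : E)) (by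
      constructor
      · rintro ⟨s, c, hc⟩ ⟨t, d, hd⟩ h
        have h1 := congrArg Subtype.val h
        have h2 : s = t := congrArg Pauli.s h1
        have h3 : vec 11 c = vec 11 d := congrArg Pauli.b h1
        have h4 := vec_inj (L32_lt c (List.mem_toFinset.1 hc)) (L32_lt d (List.mem_toFinset.1 hd)) h3
        subst h2 h4
        rfl
      · rintro ⟨⟨s, a, b⟩, ha, c, hc, hb⟩
        refine ⟨⟨s, c, List.mem_toFinset.2 hc⟩, Subtype.ext ?_⟩
        exact Pauli.ext rfl (show (0 : B 11) = a from ha.symm) (show vec 11 c = b from hb.symm))).symm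
  have h32 : Nat.card {c // c ∈ L32.toFinset} = 32 := by
    rw [Nat.card_eq_fintype_card, Fintype.card_coe]
    decide +kernel
  rw [Nat.card_congr e, Nat.card_prod, h32, Nat.card_eq_fintype_card, ZMod.card]

theorem E_conj {x : Pauli 11} (hx : x ∈ E) (hx1 : x ≠ 1) : IsConj (RG x) Z := by
  obtain ⟨ha, c, hc, hb⟩ := hx
  rcases pair_chk c hc with rfl | ⟨p, hp, q, hq, hne, hpq, hcm⟩
  · have hb0 : x.b = 0 := by rw [hb, vec_zero]
    have h1 : x = Pauli.z 11 := by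
      rcases zmod2_cases x.s with h | h
      · exact absurd (Pauli.ext h ha hb0) hx1
      · exact Pauli.ext h ha hb0
    rw [h1, RG_z]
  · have hpl := (V2_chk p hp).1
    have hql := (V2_chk q hq).1
    have hcomm : dec 11 p * dec 11 q = dec 11 q * dec 11 p := (Pauli.commute_iff _ _).2 (form_zero hcm)
    have hne' : ab (dec 11 p) ≠ ab (dec 11 q) := fun h =>
      hne (v_inj (lt_trans hpl (by norm_num)) (lt_trans hql (by norm_num)) h)
    obtain ⟨k, hk⟩ := conj_of_pair (dec_PP hp) (dec_PP hq) hcomm hne'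
    have h1 : ab (dec 11 p * dec 11 q) = ab x := by
      rw [ab_mul]
      show v p + v q = ab x
      rw [← v_xor, hpq]
      refine Prod.ext ?_ ?_
      · funext i
        show bit c (11 + i) = x.a i
        rw [ha]
        exact bit_eq_zero_of_lt (lt_of_lt_of_le (L32_lt c hc) (Nat.pow_le_pow_right (by norm_num) (by omega)))
      · exact hb.symm
    refine (conj_of_smul (c := k) (x := x) ?_ ?_).symm
    · rw [hk, cl_eq, h1]
    · rintro ⟨-, h2⟩
      rw [hb] at h2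
      have h3 : c = 0 := vec_inj (L32_lt c hc) (by norm_num) (by rw [h2, vec_zero])
      rw [h3] at hpq
      exact hne (Nat.xor_eq_zero_iff.1 hpq)

theorem pure (χ : IrrCharacter Inst.M.G) {k : ℤ}
    (hk : (χ : Inst.M.G → ℂ) Z = (charDegree (χ : Inst.M.G → ℂ) : ℂ) - 4096 * k) :
    4032 * k ≤ charDegree (χ : Inst.M.G → ℂ) := by
  have := A.finite_G
  have := Fintype.ofFinite E
  refine Ext.pure_le card_E (RG.comp E.subtype) (z := Z) (fun a ha => ?_) χ hk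
  exact E_conj a.2 (fun h => ha (Subtype.ext h))

end Cfsg.Agent.H570.Ore.Model
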