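import Cfsg.Agent.H570.Ore.Abs
import Cfsg.Agent.H570.Ore.Cent

/-!
# ORE (S2443), row B: T1 for the Baby Monster (helper570)

`t1_b` : every element `g` of the Baby Monster with `|C(g)| ≤ 7700000000` is a commutator. `SThree.{0}` is the theorem
of Feit and Thompson, `fun _ _ _ X hX hC => S3331.result X hX hC`.
-/

set_option autoImplicit false

namespace Cfsg.Agent.H570.Ore.RowB

open Cfsg Subgroup
open Cfsg.Agent.BabyM Cfsg.Agent.BabyU.ClosModel Cfsg.Agent.BabyU.ClosLane
open Cfsg.Agent.H715.Mon.Grp (SThree)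

universe u

instance fin : Finite Inst.M.G := A.finite_G

theorem isoB : Spor.IsoB Inst.M.G := ⟨BM.KHAll.iso.symm⟩

theorem simple : IsSimpleGroup Inst.M.G :=
  (BM.KHAll.iso.symm.isSimpleGroup_congr).2 KFacts.Baby.RowB.simple_B

theorem card : Nat.card Inst.M.G = Abs.NB := NotCT.Orders.b isoB

theorem nonab : ¬ IsMulCommutative Inst.M.G := by
  intro hcomm
  have := simple
  have h5 : (Nat.card Inst.M.G).Prime := by
    let _ : CommGroup Inst.M.G := { (inferInstance : Group Inst.M.G) with mul_comm := fun a b => hcomm.is_comm.comm a b }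
    exact IsSimpleGroup.prime_card
  rw [card] at h5
  norm_num at h5

theorem idx : (centralizer ({Model.Z} : Set Inst.M.G)).index = 11707448673375 := by
  have h1 : Nat.card (centralizer ({Model.Z} : Set Inst.M.G)) = 2 ^ 23 * 42305421312000 := by
    rw [Nat.card_congr (KFacts.Baby.Inst.eC A).toEquiv, A.grp.card_C]
  have h2 := (centralizer ({Model.Z} : Set Inst.M.G)).card_mul_index
  rw [h1, card] at h2
  apply Nat.eq_of_mul_eq_mul_left (show 0 < 2 ^ 23 * 42305421312000 by norm_num)
  rw [h2]; norm_num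

theorem exists_order {p : ℕ} (hp : p.Prime) (h : p ∣ Abs.NB) : ∃ x : Inst.M.G, orderOf x = p := by
  have : Fact p.Prime := ⟨hp⟩
  exact exists_prime_orderOf_dvd_card' p (by rw [card]; exact h)

/-- **The local data.** -/
theorem dt (h3 : SThree.{0}) : Abs.Dt Inst.M.G Model.Z where
  card := card
  nonab := nonab
  Z_ne := Model.Z_ne
  Z_sq := Model.Z_sq
  idx := idx
  ext := Model.ext
  pure := fun χ _ hk => Model.pure χ hk
  x47 := by
    have := simple
    obtain ⟨x, hx⟩ := exists_order (by norm_num : Nat.Prime 47) (by norm_num)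
    exact ⟨x, hx, H954.DR.CentB.cent47 isoB hx⟩
  x31 := by
    obtain ⟨x, hx⟩ := exists_order (by norm_num : Nat.Prime 31) (by norm_num)
    exact ⟨x, hx, Cent.c31 h3 isoB hx⟩
  x23 := by
    have := simple
    obtain ⟨x, hx, hxz, -⟩ := Cent.model23
    exact ⟨x, hx, hxz, Cent.c23 h3 isoB hx⟩
  x19 := by
    obtain ⟨x, hx⟩ := exists_order (by norm_num : Nat.Prime 19) (by norm_num)
    exact ⟨x, hx, Cent.c19 h3 isoB hx⟩
  x17 := by
    obtain ⟨x, hx⟩ := exists_order (by norm_num : Nat.Prime 17) (by norm_num)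
    exact ⟨x, hx, Cent.c17 h3 isoB hx⟩

/-- **T1 for the Baby Monster.** -/
theorem t1_b (h3 : SThree.{0}) {S : Type u} [Group S] (h : Spor.IsoB S) : H511.Ore.T1 S 7700000000 := by
  have := simple
  obtain ⟨e⟩ := KFacts.Baby.RowB.exists_iso h
  exact H511.Ore.T1.congr e.symm (Abs.t1 (dt h3))

end Cfsg.Agent.H570.Ore.RowB
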