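import Cfsg.Agent.H653.Sieve.Prime
import Cfsg.Agent.SmallSimple.DegreeData

/-!
# ORE (S2443), row B: characters at an exact prime `p` with `C(P) = P × K`, `|K| ≤ 2` (helper570)

* `cases` : the values of `χ` at the `p`-singular elements of `P × K`;
* `residue` : `χ(1)` modulo `p`;
* `not_real` : for `e` odd an exceptional character is not real on `P`;
* `mod_invol` : `χ(y) ≡ 0` or `± χ(1)` modulo `p` for the involution `y` of `K`.
-/

set_option autoImplicit false
set_option linter.unusedSectionVars false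

open Cfsg Subgroup
open scoped ComplexConjugate

namespace Cfsg.Agent.H570.Ore.Blk

open Cfsg.Agent.Characters.Core
open Cfsg.Agent.SmallSimple.ThetaSetup Cfsg.Agent.SmallSimple.ThetaOrtho
open Cfsg.Agent.SmallSimple.TheoremC Cfsg.Agent.SmallSimple.TheoremCCor
open Cfsg.Agent.SmallSimple.PrimeDual Cfsg.Agent.SmallSimple.ThetaCount

universe u

variable {G : Type u} [Group G] [Finite G] {p : ℕ} [hp : Fact p.Prime] {P : Sylow p G} {K : Subgroup G}

theorem lin_one (hK2 : Nat.card K ≤ 2) (θ : IrrCharacter K) : (θ : K → ℂ) 1 = 1 := by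
  classical
  have : Finite (IrrCharacter K) := finite_irr
  have := Fintype.ofFinite (IrrCharacter K)
  obtain ⟨n, hn0, hn1⟩ := isIrr_apply_one θ.2
  have hdeg : charDegree (θ : K → ℂ) = n := by
    unfold charDegree
    rw [hn1]; simp
  have hsum := SmallSimple.DegreeData.sum_sq (G := K)
  have h1 : charDegree (θ : K → ℂ) ^ 2 ≤ Nat.card K := by
    rw [← hsum]
    exact Finset.single_le_sum (f := fun χ : IrrCharacter K => charDegree (χ : K → ℂ) ^ 2)
      (fun _ _ => Nat.zero_le _) (Finset.mem_univ θ)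
  rw [hdeg] at h1
  have h2 : n = 1 := by
    by_contra h
    have : 2 ≤ n := by omega
    nlinarith
  rw [hn1, h2, Nat.cast_one]

theorem conj_fix (hK : IsComp p (P : Subgroup G) K) (hK2 : Nat.card K ≤ 2) {n : G}
    (hn : n ∈ normalizer ((P : Subgroup G) : Set G)) (y : K) : n * y * n⁻¹ = y := by
  by_contra hne
  have hy1 : (y : G) ≠ 1 := by
    intro h
    rw [h] at hne
    exact hne (by group)
  have hny : n * y * n⁻¹ ≠ 1 := fun h => hy1 (conj_eq_one_iff.1 h)
  have hm := conj_mem hK hn y.2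
  let f : Fin 3 → K := ![1, y, ⟨_, hm⟩]
  have hf : Function.Injective f := by
    intro i j hij
    fin_cases i <;> fin_cases j
    · rfl
    · exact absurd (congrArg Subtype.val hij).symm hy1
    · exact absurd (congrArg Subtype.val hij).symm hny
    · exact absurd (congrArg Subtype.val hij) hy1
    · rfl
    · exact absurd (congrArg Subtype.val hij).symm hne
    · exact absurd (congrArg Subtype.val hij) hny
    · exact absurd (congrArg Subtype.val hij) hne
    · rfl
  have h3 := Nat.card_le_card_of_injective f hf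
  rw [Nat.card_eq_fintype_card, Fintype.card_fin] at h3
  omega

theorem stable (hK : IsComp p (P : Subgroup G) K) (hK2 : Nat.card K ≤ 2) (θ : K → ℂ) :
    ∀ n ∈ normalizer ((P : Subgroup G) : Set G), tw θ n = θ := by
  intro n hn
  funext y
  rw [tw_apply hK _ hn]
  congr 1
  exact Subtype.ext (conj_fix hK hK2 hn y)

/-- **The values at the `p`-singular elements of `P × K`.** -/
theorem cases (hK : IsComp p (P : Subgroup G) K) (hP : Nat.card P = p) (hK2 : Nat.card K ≤ 2) {e t : ℕ}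
    (he : (centralizer ((P : Subgroup G) : Set G)).relIndex (normalizer ((P : Subgroup G) : Set G)) = e)
    (ht : e * t = p - 1) (χ : IrrCharacter G) :
    (∀ g : G, p ∣ orderOf g → (χ : G → ℂ) g = 0) ∨
    ∃ θ : IrrCharacter K, (∀ x : P, x ≠ 1 → ∀ y : K, (χ : G → ℂ) (x * y) = (χ : G → ℂ) x * (θ : K → ℂ) y) ∧
      ((∃ ε : ℤ, (ε = 1 ∨ ε = -1) ∧ ∀ x : P, x ≠ 1 → (χ : G → ℂ) x = ε) ∨
        ∃ d : ℤ, (d = 1 ∨ d = -1) ∧ ∃ S : Finset (P →* ℂˣ), S.card = e ∧ 1 ∉ S ∧
          ∀ x : P, x ≠ 1 → (χ : G → ℂ) x = d * ∑ l ∈ S, ((l x : ℂˣ) : ℂ)) := by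
  classical
  by_cases hv : ∃ g : G, p ∣ orderOf g ∧ (χ : G → ℂ) g ≠ 0
  · right
    obtain ⟨θ, hθ⟩ := exists_mem_Over hK hP (χ := χ) hv
    have hst := stable hK hK2 (θ : K → ℂ)
    have hval : ∀ x : P, x ≠ 1 → (χ : G → ℂ) x = part (θ : K → ℂ) (χ : G → ℂ) x := by
      intro x hx
      have h1 := apply_of_stable hK hP θ.2 hst hθ hx (1 : K)
      rw [lin_one hK2, mul_one, Subgroup.coe_one, mul_one] at h1
      exact h1
    refine ⟨θ, fun x hx y => ?_, ?_⟩
    · rw [apply_of_stable hK hP θ.2 hst hθ hx y, hval x hx]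
    · have heθ : Nat.card (stabAct hK (θ : K → ℂ)) = e := by
        rw [card_stabAct_of_stable hK hP θ.2 hst, he]
      obtain ⟨NE, X, ε, d, S, hB, -, -, -, hε, hd, hv1, hv2, -, -, -⟩ := theoremC hK hP θ.2 heθ ht
      rcases (hB χ).1 hθ with h | h
      · exact Or.inl ⟨ε χ, hε χ h, fun x hx => by rw [hval x hx, hv1 χ h x hx]⟩
      · obtain ⟨h1, h2, -, h3⟩ := hv2 χ h
        exact Or.inr ⟨d, hd, S χ, h1, h2, fun x hx => by rw [hval x hx, h3 x hx]⟩
  · left
    push Not at hv
    exact hv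

theorem coe_P (P : Sylow p G) (hP : Nat.card P = p) : Nat.card (P : Subgroup G) = p := hP

/-- integrality -/
theorem exists_sum (χ : IrrCharacter G) (Q : Subgroup G) [Fintype Q] :
    ∃ m : ℕ, ∑ x : Q, (χ : G → ℂ) x = m * (Nat.card Q : ℂ) :=
  SmallSimple.TheoremBCor.exists_sum_eq (isIrr_isCharacter χ.2) Q

theorem deg_cast (χ : IrrCharacter G) : (χ : G → ℂ) 1 = (charDegree (χ : G → ℂ) : ℂ) :=
  Blocks.Knorr.charDegree_eq χ.2

/-- the degree in the three cases -/
theorem deg_zero (hP : Nat.card P = p) {χ : IrrCharacter G} (h : ∀ x : P, x ≠ 1 → (χ : G → ℂ) x = 0) :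
    (p : ℤ) ∣ charDegree (χ : G → ℂ) := by
  have := Fintype.ofFinite (P : Subgroup G)
  obtain ⟨m, hm⟩ := exists_sum χ (P : Subgroup G)
  have h1 := SmallSimple.TheoremBCor.sum_const_off (Q := (P : Subgroup G)) (f := fun x => (χ : G → ℂ) x) (c := 0) h
  rw [hm, mul_zero, add_zero, coe_P P hP, Subgroup.coe_one, deg_cast] at h1
  exact ⟨m, by exact_mod_cast (h1.symm.trans (mul_comm _ _))⟩

theorem deg_const (hP : Nat.card P = p) {χ : IrrCharacter G} {ε : ℤ} (h : ∀ x : P, x ≠ 1 → (χ : G → ℂ) x = ε) :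
    (p : ℤ) ∣ charDegree (χ : G → ℂ) - ε := by
  have := Fintype.ofFinite (P : Subgroup G)
  obtain ⟨m, hm⟩ := exists_sum χ (P : Subgroup G)
  have h1 := SmallSimple.TheoremBCor.sum_const_off (Q := (P : Subgroup G)) (f := fun x => (χ : G → ℂ) x) (c := ε) h
  rw [hm, coe_P P hP, Subgroup.coe_one, deg_cast] at h1
  refine ⟨m - ε, ?_⟩
  have h2 : ((charDegree (χ : G → ℂ) - ε : ℤ) : ℂ) = ((p * (m - ε) : ℤ) : ℂ) := by
    push_cast
    linear_combination -h1
  exact_mod_cast h2

theorem deg_exc (hP : Nat.card P = p) {χ : IrrCharacter G} {d : ℤ} {S : Finset (P →* ℂˣ)} (hS : 1 ∉ S)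
    (h : ∀ x : P, x ≠ 1 → (χ : G → ℂ) x = d * ∑ l ∈ S, ((l x : ℂˣ) : ℂ)) :
    (p : ℤ) ∣ charDegree (χ : G → ℂ) - d * S.card := by
  have := Fintype.ofFinite (P : Subgroup G)
  obtain ⟨m, hm⟩ := exists_sum χ (P : Subgroup G)
  have h1 := SmallSimple.TheoremBCor.sum_exc_off (Q := (P : Subgroup G)) (f := fun x => (χ : G → ℂ) x) (d := d) hS h
  rw [hm, coe_P P hP, Subgroup.coe_one, deg_cast] at h1
  refine ⟨m, ?_⟩
  have h2 : ((charDegree (χ : G → ℂ) - d * S.card : ℤ) : ℂ) = ((p * m : ℤ) : ℂ) := by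
    push_cast
    linear_combination -h1
  exact_mod_cast h2

/-- **An exceptional character is not real.** -/
theorem not_real (hP : Nat.card P = p) (hp2 : p ≠ 2) {χ : IrrCharacter G} {d : ℤ} (hd : d = 1 ∨ d = -1)
    {S : Finset (P →* ℂˣ)} (ho : Odd S.card) (hS : 1 ∉ S)
    (h : ∀ x : P, x ≠ 1 → (χ : G → ℂ) x = d * ∑ l ∈ S, ((l x : ℂˣ) : ℂ))
    (hr : ∀ x : P, x ≠ 1 → conj ((χ : G → ℂ) x) = (χ : G → ℂ) x) : False := by
  classical
  have hd0 : (d : ℂ) ≠ 0 := by rcases hd with rfl | rfl <;> simp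
  -- conjugation of a linear character
  have hconj : ∀ (l : P →* ℂˣ) (x : P), conj ((l x : ℂˣ) : ℂ) = (((l⁻¹ : P →* ℂˣ) x : ℂˣ) : ℂ) := by
    intro l x
    have h1 : ((l x : ℂˣ) : ℂ) ^ Nat.card P = 1 := by
      rw [← Units.val_pow_eq_pow_val, ← map_pow, pow_card_eq_one', map_one, Units.val_one]
    have h2 : ‖((l x : ℂˣ) : ℂ)‖ = 1 := Complex.norm_eq_one_of_pow_eq_one h1 Nat.card_pos.ne'
    rw [MonoidHom.inv_apply, Units.val_inv_eq_inv_val, Complex.inv_def, Complex.normSq_eq_norm_sq, h2]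
    simp
  -- the two sums agree
  have hsum : ∀ x : P, ∑ l ∈ S, ((l x : ℂˣ) : ℂ) = ∑ l ∈ S.image (fun l => l⁻¹), ((l x : ℂˣ) : ℂ) := by
    intro x
    rw [Finset.sum_image (s := S) (g := fun l : P →* ℂˣ => l⁻¹) (f := fun l : P →* ℂˣ => ((l x : ℂˣ) : ℂ))
      (fun a _ b _ hab => inv_injective hab)]
    by_cases hx : x = 1
    · subst hx; simp
    · have h1 := hr x hx
      rw [h x hx, map_mul, map_intCast, map_sum] at h1
      have h2 := mul_left_cancel₀ hd0 h1
      rw [← h2]
      exact Finset.sum_congr rfl fun l _ => hconj l x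
  -- linear independence
  have hli : LinearIndependent ℂ (fun l : P →* ℂˣ => (fun x : P => ((l x : ℂˣ) : ℂ))) := by
    have h1 := linearIndependent_monoidHom (P : Type u) ℂ
    have h2 := h1.comp (fun l : P →* ℂˣ => (Units.coeHom ℂ).comp l) (by
      intro a b hab
      ext x
      exact congrArg (fun f : P →* ℂ => f x) hab)
    exact h2
  have hST : S = S.image (fun l => l⁻¹) := by
    have h1 : ∑ l ∈ S ∪ S.image (fun l => l⁻¹), (((if l ∈ S then (1 : ℂ) else 0) -
        (if l ∈ S.image (fun l => l⁻¹) then (1 : ℂ) else 0)) • (fun x : P => ((l x : ℂˣ) : ℂ))) = 0 := by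
      funext x
      rw [Finset.sum_apply]
      simp only [Pi.smul_apply, smul_eq_mul, sub_mul, ite_mul, one_mul, zero_mul, Pi.zero_apply]
      rw [Finset.sum_sub_distrib, ← Finset.sum_filter, ← Finset.sum_filter]
      have e1 : (S ∪ S.image (fun l => l⁻¹)).filter (fun l => l ∈ S) = S := by
        ext l; simp only [Finset.mem_filter, Finset.mem_union]; tauto
      have e2 : (S ∪ S.image (fun l => l⁻¹)).filter (fun l => l ∈ S.image (fun l => l⁻¹)) = S.image (fun l => l⁻¹) := by
        ext l; simp only [Finset.mem_filter, Finset.mem_union]; tauto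
      rw [e1, e2, hsum x, sub_self]
    have h2 := linearIndependent_iff'.1 hli _ _ h1
    ext l
    constructor
    · intro hl
      by_contra hl'
      have h3 := h2 l (Finset.mem_union_left _ hl)
      rw [if_pos hl, if_neg hl'] at h3
      simp at h3
    · intro hl
      by_contra hl'
      have h3 := h2 l (Finset.mem_union_right _ hl)
      rw [if_pos hl, if_neg hl'] at h3
      simp at h3
  -- inversion has no fixed point on `S`
  have heven : Even S.card := by
    have h1 : ∀ l ∈ S, l⁻¹ ∈ S := by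
      intro l hl
      rw [hST]
      exact Finset.mem_image_of_mem _ hl
    have h2 : ∀ l ∈ S, l⁻¹ ≠ l := by
      intro l hl h3
      have h4 : l * l = 1 := by rw [← h3]; nth_rewrite 1 [h3]; exact mul_inv_cancel l
      apply hS
      have h5 : l = 1 := by
        ext x
        have h6 : (l x) ^ 2 = 1 := by
          rw [pow_two]
          exact DFunLike.congr_fun h4 x
        have h7 : (l x) ^ p = 1 := by
          rw [← map_pow]
          have h8 : x ^ p = 1 := by
            have := pow_card_eq_one' (x := x)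
            rwa [show Nat.card P = p from hP] at this
          rw [h8, map_one]
        have h9 : (l x) ^ (Nat.gcd 2 p) = 1 := by
          rw [← orderOf_dvd_iff_pow_eq_one] at h6 h7 ⊢
          exact Nat.dvd_gcd h6 h7
        have h10 : Nat.gcd 2 p = 1 := (Nat.coprime_primes Nat.prime_two hp.out).2 (Ne.symm hp2)
        rw [h10, pow_one] at h9
        rw [h9]; rfl
      rwa [h5] at hl
    have h5 : ∑ l ∈ S, (1 : ZMod 2) = 0 :=
      Finset.sum_involution (fun l _ => l⁻¹) (fun _ _ => by decide) (fun l hl _ => h2 l hl) (fun l hl => h1 l hl)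
        (fun l _ => inv_inv l)
    rw [Finset.sum_const, nsmul_eq_mul, mul_one, ZMod.natCast_eq_zero_iff] at h5
    exact even_iff_two_dvd.2 h5
  exact (Nat.not_even_iff_odd.2 ho) heven

/-- **The residue of the degree.** -/
theorem residue (hK : IsComp p (P : Subgroup G) K) (hP : Nat.card P = p) (hK2 : Nat.card K ≤ 2) {e t : ℕ}
    (he : (centralizer ((P : Subgroup G) : Set G)).relIndex (normalizer ((P : Subgroup G) : Set G)) = e)
    (ht : e * t = p - 1) (χ : IrrCharacter G) :
    (p : ℤ) ∣ charDegree (χ : G → ℂ) ∨ (p : ℤ) ∣ charDegree (χ : G → ℂ) - 1 ∨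
      (p : ℤ) ∣ charDegree (χ : G → ℂ) + 1 ∨
      (((p : ℤ) ∣ charDegree (χ : G → ℂ) - e ∨ (p : ℤ) ∣ charDegree (χ : G → ℂ) + e) ∧
        (Odd e → p ≠ 2 → ∃ x : P, x ≠ 1 ∧ conj ((χ : G → ℂ) x) ≠ (χ : G → ℂ) x)) := by
  rcases cases hK hP hK2 he ht χ with h | ⟨θ, -, ⟨ε, hε, h⟩ | ⟨d, hd, S, hS, hS1, h⟩⟩
  · left
    refine deg_zero hP fun x hx => h x ?_
    rw [Blocks.CyclicOrtho.orderOf_eq P hP x.2 fun h => hx (Subtype.ext h)]
  · have h1 := deg_const hP h
    rcases hε with rfl | rfl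
    · exact Or.inr (Or.inl h1)
    · exact Or.inr (Or.inr (Or.inl (by simpa using h1)))
  · have h1 := deg_exc hP hS1 h
    refine Or.inr (Or.inr (Or.inr ⟨?_, fun ho hp2 => ?_⟩))
    · rcases hd with rfl | rfl
      · left; rw [← hS]; simpa using h1
      · right; rw [← hS]; simpa using h1
    · by_contra hc
      push Not at hc
      exact not_real hP hp2 hd (hS ▸ ho) hS1 h hc

/-- integrality along a homomorphism -/
theorem exists_sum_hom (χ : IrrCharacter G) {Q : Type u} [Group Q] [Fintype Q] (f : Q →* G) :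
    ∃ m : ℕ, ∑ x : Q, (χ : G → ℂ) (f x) = m * (Nat.card Q : ℂ) := by
  obtain ⟨m, hm⟩ := classInner_isNat (isCharacter_comp f (isIrr_isCharacter χ.2)) (isCharacter_one (G := Q))
  rw [classInner_def] at hm
  have hc : (Nat.card Q : ℂ) ≠ 0 := card_ne_zero_complex
  rw [inv_mul_eq_iff_eq_mul₀ hc] at hm
  refine ⟨m, ?_⟩
  rw [mul_comm, ← hm]
  refine Finset.sum_congr rfl fun x _ => ?_
  simp

/-- the linear character of a group of order two at its involution -/
theorem theta_invol {y : K} (hy2 : y * y = 1) (hK2 : Nat.card K ≤ 2) (θ : IrrCharacter K) :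
    (θ : K → ℂ) y = 1 ∨ (θ : K → ℂ) y = -1 := by
  obtain ⟨f, hf⟩ := Characters.Linear.exists_hom_of_isIrrCharacter θ.2 (lin_one hK2 θ)
  have h1 : ((f y : ℂˣ) : ℂ) * ((f y : ℂˣ) : ℂ) = 1 := by
    rw [← Units.val_mul, ← map_mul, hy2, map_one, Units.val_one]
  rw [hf]
  exact mul_self_eq_one_iff.1 h1

/-- **The value at the involution of `K` modulo `p`.** -/
theorem mod_invol (hK : IsComp p (P : Subgroup G) K) (hP : Nat.card P = p) (hK2 : Nat.card K = 2) {y : G}
    (hy : y ∈ K) (hy1 : y ≠ 1) {e t : ℕ}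
    (he : (centralizer ((P : Subgroup G) : Set G)).relIndex (normalizer ((P : Subgroup G) : Set G)) = e)
    (ht : e * t = p - 1) (χ : IrrCharacter G) {c : ℤ} (hc : (χ : G → ℂ) y = c) :
    ((p : ℤ) ∣ charDegree (χ : G → ℂ) ∧ (p : ℤ) ∣ c) ∨ (p : ℤ) ∣ c - charDegree (χ : G → ℂ) ∨
      (p : ℤ) ∣ c + charDegree (χ : G → ℂ) := by
  classical
  have := Fintype.ofFinite (P : Subgroup G)
  have := Fintype.ofFinite K
  have hyy : (⟨y, hy⟩ : K) * ⟨y, hy⟩ = 1 := by
    have := pow_card_eq_one' (x := (⟨y, hy⟩ : K))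
    rw [hK2, pow_two] at this
    exact this
  -- the homomorphism
  have hcomm : ∀ (x : (P : Subgroup G)) (k : K), Commute ((P : Subgroup G).subtype x) (K.subtype k) :=
    fun x k => hK.comm x.2 k.2
  obtain ⟨m, hm⟩ := exists_sum_hom χ (((P : Subgroup G).subtype).noncommCoprod K.subtype hcomm)
  have huniv : (Finset.univ : Finset K) = {1, ⟨y, hy⟩} := by
    symm
    refine Finset.eq_univ_of_card _ ?_
    rw [Finset.card_pair (fun h => hy1 (congrArg Subtype.val h).symm), ← Nat.card_eq_fintype_card, hK2]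
  have hsplit : ∑ x : Prod (P : Subgroup G) K, (χ : G → ℂ) ((((P : Subgroup G).subtype).noncommCoprod K.subtype hcomm) x) =
      ∑ x : (P : Subgroup G), (χ : G → ℂ) x + ∑ x : (P : Subgroup G), (χ : G → ℂ) (x * y) := by
    rw [Fintype.sum_prod_type_right, huniv, Finset.sum_pair (fun h => hy1 (congrArg Subtype.val h).symm)]
    congr 1
    refine Finset.sum_congr rfl fun x _ => ?_
    simp [MonoidHom.noncommCoprod_apply]
  rw [hsplit, Nat.card_prod, coe_P P hP, hK2] at hm
  obtain ⟨a, ha⟩ := exists_sum χ (P : Subgroup G)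
  rw [coe_P P hP] at ha
  have hoff : ∀ f : ↥(P : Subgroup G) → ℂ, ∑ x : (P : Subgroup G), f x = f 1 + ∑ x ∈ Finset.univ.erase 1, f x :=
    fun f => (Finset.add_sum_erase _ _ (Finset.mem_univ (1 : (P : Subgroup G)))).symm
  have hy' : ∑ x : (P : Subgroup G), (χ : G → ℂ) (x * y) =
      c + ∑ x ∈ Finset.univ.erase (1 : (P : Subgroup G)), (χ : G → ℂ) (x * y) := by
    rw [hoff, Subgroup.coe_one, one_mul, hc]
  rcases cases hK hP hK2.le he ht χ with h | ⟨θ, hθ, -⟩
  · left
    have h0 : (p : ℤ) ∣ charDegree (χ : G → ℂ) := by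
      refine deg_zero hP fun x hx => h x ?_
      rw [Blocks.CyclicOrtho.orderOf_eq P hP x.2 fun h => hx (Subtype.ext h)]
    refine ⟨h0, ?_⟩
    have h1 : ∑ x ∈ Finset.univ.erase (1 : (P : Subgroup G)), (χ : G → ℂ) (x * y) = 0 := by
      refine Finset.sum_eq_zero fun x hx => h _ ?_
      have hx1 : x ≠ 1 := Finset.ne_of_mem_erase hx
      have ho : orderOf (x : G) = p := Blocks.CyclicOrtho.orderOf_eq P hP x.2 fun h => hx1 (Subtype.ext h)
      have hcm : Commute (x : G) y := hK.comm x.2 hy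
      have hoy : orderOf y = 2 := by
        refine orderOf_eq_prime ?_ hy1
        rw [pow_two]
        exact congrArg Subtype.val hyy
      have hne : p ≠ 2 := by
        intro h2
        apply ((hK y).1 hy).2
        rw [hoy, h2]
      have hcop : (orderOf (x : G)).Coprime (orderOf y) := by
        rw [ho, hoy]
        exact (Nat.coprime_primes hp.out Nat.prime_two).2 hne
      rw [hcm.orderOf_mul_eq_mul_orderOf_of_coprime hcop, ho]
      exact dvd_mul_right _ _
    rw [hy', h1, add_zero, ha] at hm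
    have h2 : ((c : ℤ) : ℂ) = ((p * (2 * m - a) : ℤ) : ℂ) := by
      push_cast
      push_cast at hm
      linear_combination hm
    exact ⟨_, by exact_mod_cast h2⟩
  · right
    have hT : ∑ x ∈ Finset.univ.erase (1 : (P : Subgroup G)), (χ : G → ℂ) x = a * p - charDegree (χ : G → ℂ) := by
      have h1 := hoff (fun x => (χ : G → ℂ) x)
      rw [ha, Subgroup.coe_one, deg_cast] at h1
      linear_combination -h1
    have hTy : ∑ x ∈ Finset.univ.erase (1 : (P : Subgroup G)), (χ : G → ℂ) (x * y) =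
        (a * p - charDegree (χ : G → ℂ)) * (θ : K → ℂ) ⟨y, hy⟩ := by
      rw [← hT, Finset.sum_mul]
      exact Finset.sum_congr rfl fun x hx => hθ x (Finset.ne_of_mem_erase hx) ⟨y, hy⟩
    rw [hy', hTy, ha] at hm
    rcases theta_invol hyy hK2.le θ with h1 | h1
    · left
      rw [h1] at hm
      have h2 : ((c - charDegree (χ : G → ℂ) : ℤ) : ℂ) = ((p * (2 * m - 2 * a) : ℤ) : ℂ) := by
        push_cast
        push_cast at hm
        linear_combination hm
      exact ⟨_, by exact_mod_cast h2⟩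
    · right
      rw [h1] at hm
      have h2 : ((c + charDegree (χ : G → ℂ) : ℤ) : ℂ) = ((p * (2 * (m : ℤ)) : ℤ) : ℂ) := by
        push_cast
        push_cast at hm
        linear_combination hm
      exact ⟨2 * (m : ℤ), Int.cast_injective h2⟩

end Cfsg.Agent.H570.Ore.Blk
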