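import Cfsg.Agent.Co2Type.Quad

/-!
# ORE (S2443), row B: `C_Q(x)` for `x` of order 23 on an extraspecial group `Q = 2^{1+22}` (helper570)

* `ext_card` : an extraspecial group has order `2 · 4 ^ k`;
* `cQ` : `C_Q(x) = ⟨z⟩`;
* `card_D` : `|C(x) ∩ C(z)| ≤ 46`, if `C(z)/Q` has centralizers of elements of order 23 of order 23;
* `not_four` : `4 ∤ |C(x)|`.
-/

set_option autoImplicit false
set_option linter.unusedSectionVars false

open Subgroup

namespace Cfsg.Agent.H570.Ore.Ex

open Cfsg.Agent.Co2Type.Quad (Large)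

universe u

variable {G : Type u} [Group G] [Finite G]

theorem half {A : Subgroup G} {z a c : G} (hz1 : z ≠ 1) (hz2 : z * z = 1) (hz : ∀ x ∈ A, x * z = z * x)
    (hcomm : ∀ b ∈ A, a * b = b * a ∨ a * b = b * a * z) (hc : c ∈ A) (hac : a * c ≠ c * a) :
    Nat.card A = 2 * Nat.card (A ⊓ centralizer {a} : Subgroup G) := by
  have hac' := (hcomm c hc).resolve_left hac
  have h1 : ((centralizer ({a} : Set G)).subgroupOf A).index = 2 := by
    rw [Subgroup.index_eq_two_iff]
    refine ⟨⟨c, hc⟩, fun b => ?_⟩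
    have e1 : (b * ⟨c, hc⟩ : A) ∈ (centralizer ({a} : Set G)).subgroupOf A ↔ a * (b * c) = b * c * a := by
      rw [mem_subgroupOf, mem_centralizer_singleton_iff]
      exact eq_comm
    have e2 : b ∈ (centralizer ({a} : Set G)).subgroupOf A ↔ a * b = b * a := by
      rw [mem_subgroupOf, mem_centralizer_singleton_iff]
      exact eq_comm
    rw [e1, e2]
    by_cases hb : a * b = b * a
    · right
      refine ⟨hb, fun h => hz1 ?_⟩
      have h2 : a * (b * c) = b * c * a * z := by
        rw [← mul_assoc, hb, mul_assoc, hac']; group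
      rw [h2] at h
      exact mul_eq_left.1 h
    · left
      refine ⟨?_, hb⟩
      have hb' := (hcomm b b.2).resolve_left hb
      calc a * (b * c) = a * b * c := by group
        _ = b * a * (z * c) := by rw [hb']; group
        _ = b * (a * c) * z := by rw [← hz c hc]; group
        _ = b * c * a * (z * z) := by rw [hac']; group
        _ = b * c * a := by rw [hz2, mul_one]
  have h2 := ((centralizer ({a} : Set G)).subgroupOf A).card_mul_index
  rw [h1, ← Subgroup.inf_subgroupOf_right, Nat.card_congr (Subgroup.subgroupOfEquivOfLe inf_le_right).toEquiv, inf_comm] at h2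
  omega

/-- **The order of an extraspecial group.** -/
theorem ext_card {z : G} (hz1 : z ≠ 1) (hz2 : z * z = 1) : ∀ (n : ℕ) (A : Subgroup G), Nat.card A = n → z ∈ A →
    (∀ x ∈ A, x * z = z * x) → (∀ a ∈ A, ∀ b ∈ A, a * b = b * a ∨ a * b = b * a * z) →
    (∀ a ∈ A, (∀ b ∈ A, a * b = b * a) → a = 1 ∨ a = z) → ∃ k, n = 2 * 4 ^ k := by
  intro n
  induction n using Nat.strong_induction_on with
  | _ n ih =>
    intro A hn hzA hz hcomm hcent
    by_cases h : ∀ a ∈ A, a = 1 ∨ a = z
    · refine ⟨0, ?_⟩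
      have h1 : (A : Set G) = {1, z} := by
        ext a
        rw [Set.mem_insert_iff, Set.mem_singleton_iff]
        constructor
        · intro ha; exact h a ha
        · rintro (rfl | rfl)
          · exact A.one_mem
          · exact hzA
      have h2 : Nat.card A = 2 := by
        rw [← Set.ncard_pair (Ne.symm hz1), ← h1]
        rfl
      rw [← hn, h2]; rfl
    · push Not at h
      obtain ⟨a, ha, ha1, haz⟩ := h
      obtain ⟨b, hb, hab⟩ : ∃ b ∈ A, a * b ≠ b * a := by
        by_contra hcon
        push Not at hcon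
        rcases hcent a ha hcon with h | h
        · exact ha1 h
        · exact haz h
      have hab' := (hcomm a ha b hb).resolve_left hab
      set A1 : Subgroup G := A ⊓ centralizer {a} with hA1
      set D : Subgroup G := A1 ⊓ centralizer {b} with hD
      have c1 : Nat.card A = 2 * Nat.card A1 := half hz1 hz2 hz (hcomm a ha) hb hab
      have c2 : Nat.card A1 = 2 * Nat.card D := by
        refine half (c := a) hz1 hz2 (fun x hx => hz x hx.1) (fun x hx => hcomm b hb x hx.1)
          ⟨ha, mem_centralizer_singleton_iff.2 rfl⟩ (Ne.symm hab)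
      have hDpos : 0 < Nat.card D := Nat.card_pos
      have memD : ∀ d, d ∈ D ↔ d ∈ A ∧ d * a = a * d ∧ d * b = b * d := by
        intro d
        rw [hD, hA1, mem_inf, mem_inf, mem_centralizer_singleton_iff, mem_centralizer_singleton_iff, and_assoc]
      have hzcom : ∀ x ∈ A, z * x = x * z := fun x hx => (hz x hx).symm
      have hcD : ∀ d ∈ D, (∀ e ∈ D, d * e = e * d) → d = 1 ∨ d = z := by
        intro d hd hdc
        obtain ⟨hdA, hda, hdb⟩ := (memD d).1 hd
        refine hcent d hdA fun g hg => ?_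
        -- `g a^i b^j` lies in `D`
        have key : ∀ g ∈ A, g * a = a * g → d * g = g * d := by
          intro g hg hga
          rcases hcomm g hg b hb with h1 | h1
          · exact hdc g ((memD g).2 ⟨hg, hga, h1⟩)
          · have h2 : g * a ∈ D := by
              refine (memD _).2 ⟨A.mul_mem hg ha, by rw [hga, mul_assoc, hga], ?_⟩
              calc g * a * b = g * (a * b) := by group
                _ = g * b * a * z := by rw [hab']; group
                _ = b * g * (z * a) * z := by rw [h1]; group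
                _ = b * g * a * (z * z) := by rw [hzcom a ha]; group
                _ = b * (g * a) := by rw [hz2]; group
            have h3 := hdc _ h2
            have h4 : d * g * a = g * d * a := by
              calc d * g * a = d * (g * a) := by group
                _ = g * (a * d) := by rw [h3]; group
                _ = g * d * a := by rw [← hda]; group
            exact mul_right_cancel h4
        rcases hcomm g hg a ha with h1 | h1
        · exact key g hg h1
        · have h2 : g * b * a = a * (g * b) := by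
            have h5 : b * a = a * b * z := by
              rw [hab', mul_assoc, mul_assoc, hz2, mul_one]
            calc g * b * a = g * (b * a) := by group
              _ = g * a * b * z := by rw [h5]; group
              _ = a * g * (z * b) * z := by rw [h1]; group
              _ = a * g * b * (z * z) := by rw [hzcom b hb]; group
              _ = a * (g * b) := by rw [hz2]; group
          have h3 := key (g * b) (A.mul_mem hg hb) h2
          have h4 : d * g * b = g * d * b := by
            calc d * g * b = d * (g * b) := by group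
              _ = g * (b * d) := by rw [h3]; group
              _ = g * d * b := by rw [← hdb]; group
          exact mul_right_cancel h4
      obtain ⟨k, hk⟩ := ih (Nat.card D) (by omega) D rfl ((memD z).2 ⟨hzA, hzcom a ha, hzcom b hb⟩)
        (fun x hx => hz x ((memD x).1 hx).1)
        (fun x hx y hy => hcomm x ((memD x).1 hx).1 y ((memD y).1 hy).1) hcD
      refine ⟨k + 1, ?_⟩
      rw [← hn, c1, c2, hk]; ring

/-- fixed points of an element of prime order on an invariant set -/
theorem fixed_mod {p : ℕ} [hp : Fact p.Prime] {x : G} (hx : orderOf x = p) (S : Set G)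
    (hS : ∀ s ∈ S, x * s * x⁻¹ ∈ S) : Nat.card S ≡ Nat.card {s : G | s ∈ S ∧ x * s = s * x} [MOD p] := by
  have hpow : ∀ (n : ℕ), ∀ s ∈ S, x ^ n * s * (x ^ n)⁻¹ ∈ S := by
    intro n
    induction n with
    | zero => intro s hs; simpa using hs
    | succ n ih =>
      intro s hs
      have h1 := hS _ (ih s hs)
      have h2 : x ^ (n + 1) * s * (x ^ (n + 1))⁻¹ = x * (x ^ n * s * (x ^ n)⁻¹) * x⁻¹ := by
        rw [pow_succ']; group
      rw [h2]; exact h1
  have hinv : ∀ k ∈ zpowers x, ∀ s ∈ S, k * s * k⁻¹ ∈ S := by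
    intro k hk s hs
    obtain ⟨n, rfl⟩ := (Submonoid.mem_powers_iff _ _).1 (mem_powers_iff_mem_zpowers.2 hk)
    exact hpow n s hs
  let _ : MulAction (zpowers x) S :=
    { smul := fun k s => ⟨k * s * (k : G)⁻¹, hinv k k.2 s s.2⟩
      one_smul := fun s => Subtype.ext (by
        show ((1 : zpowers x) : G) * s * ((1 : zpowers x) : G)⁻¹ = s
        rw [Subgroup.coe_one]; group)
      mul_smul := fun k l s => Subtype.ext (by
        show ((k * l : zpowers x) : G) * s * ((k * l : zpowers x) : G)⁻¹ = (k : G) * ((l : G) * s * (l : G)⁻¹) * (k : G)⁻¹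
        rw [Subgroup.coe_mul]; group) }
  have hpg : IsPGroup p (zpowers x) := IsPGroup.of_card (n := 1) (by rw [Nat.card_zpowers, hx, pow_one])
  have h1 := hpg.card_modEq_card_fixedPoints S
  have h2 : Nat.card (MulAction.fixedPoints (zpowers x) S) = Nat.card {s : G | s ∈ S ∧ x * s = s * x} := by
    refine Nat.card_congr ⟨fun s => ⟨s.1.1, s.1.2, ?_⟩, fun s => ⟨⟨s.1, s.2.1⟩, ?_⟩, fun s => rfl, fun s => rfl⟩
    · have h3 := s.2 ⟨x, mem_zpowers x⟩
      have h4 : x * (s.1 : G) * x⁻¹ = s.1 := congrArg Subtype.val h3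
      exact mul_inv_eq_iff_eq_mul.1 h4
    · intro k
      apply Subtype.ext
      show (k : G) * s.1 * (k : G)⁻¹ = s.1
      obtain ⟨n, hn⟩ := mem_zpowers_iff.1 k.2
      have h4 : Commute (k : G) s.1 := by
        rw [← hn]
        exact (show Commute x s.1 from s.2.2).zpow_left n
      rw [h4.eq, mul_inv_cancel_right]
  rw [h2] at h1
  exact h1

variable {Q : Subgroup G} {z : G}

/-- **`C_Q(x) = ⟨z⟩`.** -/
theorem cQ (L : Large Q z) (hQ : Nat.card Q = 2 ^ 23) {x : G} (hx : orderOf x = 23) (hxz : x * z = z * x) :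
    ∀ q ∈ Q, q * x = x * q → q = 1 ∨ q = z := by
  have h23 : Fact (Nat.Prime 23) := ⟨by norm_num⟩
  set F : Subgroup G := Q ⊓ centralizer {x} with hF
  have memF : ∀ d, d ∈ F ↔ d ∈ Q ∧ d * x = x * d := by
    intro d
    rw [hF, mem_inf, mem_centralizer_singleton_iff]
  have hcF : Nat.card Q ≡ Nat.card F [MOD 23] := by
    have h1 := fixed_mod hx (Q : Set G) (fun s hs => L.conj_mem x hxz s hs)
    have h2 : {s : G | s ∈ (Q : Set G) ∧ x * s = s * x} = (F : Set G) := by
      ext d
      rw [Set.mem_ofPred_eq, SetLike.mem_coe, SetLike.mem_coe, memF]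
      exact ⟨fun h => ⟨h.1, h.2.symm⟩, fun h => ⟨h.1, h.2.symm⟩⟩
    rw [h2] at h1
    exact h1
  -- a partner
  have hcent : ∀ a ∈ F, (∀ b ∈ F, a * b = b * a) → a = 1 ∨ a = z := by
    intro a ha hab
    by_contra hcon
    push Not at hcon
    obtain ⟨haQ, hax⟩ := (memF a).1 ha
    obtain ⟨c, hc, hac⟩ : ∃ c ∈ Q, a * c ≠ c * a := by
      by_contra hcon'
      push Not at hcon'
      rcases L.cent a haQ hcon' with h | h
      · exact hcon.1 h
      · exact hcon.2 h
    have h1 := half (A := Q) L.z_ne L.z_sq L.comm_z (L.comm a haQ) hc hac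
    set S : Set G := {b | b ∈ Q ∧ a * b ≠ b * a} with hS
    have h2 : Nat.card Q = Nat.card (Q ⊓ centralizer {a} : Subgroup G) + Nat.card S := by
      have h3 : (Q : Set G) = ((Q ⊓ centralizer {a} : Subgroup G) : Set G) ∪ S := by
        ext b
        rw [Set.mem_union, SetLike.mem_coe, SetLike.mem_coe, mem_inf, mem_centralizer_singleton_iff, hS,
          Set.mem_ofPred_eq]
        constructor
        · intro hb
          by_cases h : a * b = b * a
          · exact Or.inl ⟨hb, h.symm⟩
          · exact Or.inr ⟨hb, h⟩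
        · rintro (hb | hb)
          · exact hb.1
          · exact hb.1
      have h4 : Disjoint ((Q ⊓ centralizer {a} : Subgroup G) : Set G) S := by
        rw [Set.disjoint_left]
        rintro b hb hb'
        exact hb'.2 (mem_centralizer_singleton_iff.1 hb.2).symm
      have h5 : Nat.card Q = Nat.card (Q : Set G) := rfl
      rw [h5, h3, Nat.card_coe_set_eq, Set.ncard_union_eq h4 (Set.toFinite _) (Set.toFinite _)]
      rfl
    have h6 : Nat.card S = 2 ^ 22 := by omega
    have h7 := fixed_mod hx S (by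
      rintro s ⟨hs, hns⟩
      refine ⟨L.conj_mem x hxz s hs, fun h => hns ?_⟩
      have e1 : x⁻¹ * (a * (x * s * x⁻¹)) * x = a * s := by
        calc x⁻¹ * (a * (x * s * x⁻¹)) * x = x⁻¹ * (a * x) * s := by group
          _ = a * s := by rw [hax]; group
      have e2 : x⁻¹ * (x * s * x⁻¹ * a) * x = s * a := by
        calc x⁻¹ * (x * s * x⁻¹ * a) * x = s * x⁻¹ * (a * x) := by group
          _ = s * a := by rw [hax]; group
      rw [← e1, ← e2, h])
    rw [h6] at h7
    have h8 : {s : G | s ∈ S ∧ x * s = s * x} = ∅ := by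
      ext s
      rw [Set.mem_ofPred_eq, Set.mem_empty_iff_false, iff_false]
      rintro ⟨⟨hs, hns⟩, hxs⟩
      exact hns (hab s ((memF s).2 ⟨hs, hxs.symm⟩))
    rw [h8] at h7
    simp only [Nat.card_eq_fintype_card, Fintype.card_of_isEmpty] at h7
    revert h7
    decide
  obtain ⟨k, hk⟩ := ext_card L.z_ne L.z_sq _ F rfl ((memF z).2 ⟨L.z_mem, hxz.symm⟩)
    (fun a ha => L.comm_z a ((memF a).1 ha).1) (fun a ha b hb => L.comm a ((memF a).1 ha).1 b ((memF b).1 hb).1) hcent
  have hle : Nat.card F ≤ 2 ^ 23 := by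
    rw [← hQ]
    exact Subgroup.card_le_of_le inf_le_left
  have hk11 : k ≤ 11 := by
    by_contra h
    have h1 : 4 ^ 12 ≤ 4 ^ k := Nat.pow_le_pow_right (by norm_num) (by omega)
    rw [hk] at hle
    omega
  rw [hQ, hk] at hcF
  have hk0 : k = 0 ∨ k = 11 := by
    have key : ∀ k ≤ 11, 2 ^ 23 ≡ 2 * 4 ^ k [MOD 23] → k = 0 ∨ k = 11 := by
      unfold Nat.ModEq
      decide
    exact key k hk11 hcF
  rcases hk0 with rfl | rfl
  · intro q hq hqx
    have hqF : q ∈ F := (memF q).2 ⟨hq, hqx⟩
    by_contra hcon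
    push Not at hcon
    have h1 : ({1, z, q} : Set G) ⊆ F := by
      rintro a (rfl | rfl | rfl)
      · exact F.one_mem
      · exact (memF _).2 ⟨L.z_mem, hxz.symm⟩
      · exact hqF
    have h2 : ({1, z, q} : Set G).ncard = 3 := by
      rw [Set.ncard_eq_three]
      exact ⟨1, z, q, Ne.symm L.z_ne, Ne.symm hcon.1, Ne.symm hcon.2, rfl⟩
    have h3 : ({1, z, q} : Set G).ncard ≤ (F : Set G).ncard := Set.ncard_le_ncard h1 (Set.toFinite _)
    have h4 : (F : Set G).ncard = Nat.card F := rfl
    omega
  · exfalso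
    have h1 : F = Q := Subgroup.eq_of_le_of_card_ge inf_le_left (by rw [hQ, hk]; norm_num)
    have h2 : x ∈ Q := L.self x hxz fun q hq => by
      rw [← h1] at hq
      exact ((memF q).1 hq).2.symm
    have h3 : orderOf x ∣ Nat.card Q := by
      rw [← Subgroup.orderOf_mk x h2]
      exact orderOf_dvd_natCard _
    rw [hx, hQ] at h3
    revert h3
    norm_num

/-- **`|C(x) ∩ C(z)| ≤ 46`.** -/
theorem card_D (L : Large Q z) (hQ : Nat.card Q = 2 ^ 23) {K₀ : Type*} [Group K₀]
    (π : centralizer ({z} : Set G) →* K₀) (hπ : ∀ c, π c = 1 ↔ (c : G) ∈ Q)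
    (hK : ∀ y : K₀, orderOf y = 23 → Nat.card (centralizer ({y} : Set K₀)) = 23) {x : G} (hx : orderOf x = 23)
    (hxz : x * z = z * x) : Nat.card (centralizer {x} ⊓ centralizer {z} : Subgroup G) ≤ 46 := by
  have hxC : x ∈ centralizer ({z} : Set G) := mem_centralizer_singleton_iff.2 hxz
  set D : Subgroup G := centralizer {x} ⊓ centralizer {z} with hD
  have hDC : ∀ d : D, (d : G) ∈ centralizer ({z} : Set G) := fun d => d.2.2
  let f : D →* K₀ := π.comp (Subgroup.inclusion (inf_le_right : D ≤ centralizer ({z} : Set G)))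
  have hker : Nat.card f.ker ≤ 2 := by
    have h1 : ∀ d ∈ f.ker, (d : G) = 1 ∨ (d : G) = z := by
      intro d hd
      have h2 : π ⟨(d : G), d.2.2⟩ = 1 := hd
      exact cQ L hQ hx hxz d ((hπ _).1 h2) (mem_centralizer_singleton_iff.1 d.2.1)
    by_contra hlt
    push Not at hlt
    have h3 : ((f.ker : Set D)).ncard ≤ ({(1 : G), z} : Set G).ncard := by
      refine Set.ncard_le_ncard_of_injOn (fun d : D => (d : G)) (fun d hd => ?_)
        (fun a _ b _ h => Subtype.ext h) (Set.toFinite _)
      rcases h1 d hd with h | h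
      · exact Or.inl h
      · exact Or.inr h
    have h4 : ({(1 : G), z} : Set G).ncard ≤ 2 := (Set.ncard_pair (Ne.symm L.z_ne)).le
    have h5 : ((f.ker : Set D)).ncard = Nat.card f.ker := rfl
    omega
  have hpx : orderOf (π ⟨x, hxC⟩) = 23 := by
    have h23 : Nat.Prime 23 := by norm_num
    have h1 : orderOf (π ⟨x, hxC⟩) ∣ 23 := by
      rw [← hx, ← Subgroup.orderOf_mk x hxC]
      exact orderOf_map_dvd π _
    rcases (Nat.dvd_prime h23).1 h1 with h | h
    · exfalso
      have h2 : x ∈ Q := (hπ ⟨x, hxC⟩).1 (orderOf_eq_one_iff.1 h)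
      have h3 : orderOf x ∣ Nat.card Q := by
        rw [← Subgroup.orderOf_mk x h2]
        exact orderOf_dvd_natCard _
      rw [hx, hQ] at h3
      revert h3
      norm_num
    · exact h
  have hrange : Nat.card f.range ≤ 23 := by
    have h1 : f.range ≤ centralizer ({π ⟨x, hxC⟩} : Set K₀) := by
      rintro _ ⟨d, rfl⟩
      rw [mem_centralizer_singleton_iff]
      show π ⟨(d : G), d.2.2⟩ * π ⟨x, hxC⟩ = π ⟨x, hxC⟩ * π ⟨(d : G), d.2.2⟩
      rw [← map_mul, ← map_mul]
      congr 1
      exact Subtype.ext (mem_centralizer_singleton_iff.1 d.2.1)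
    have h2 := hK _ hpx
    have h3 : Finite (centralizer ({π ⟨x, hxC⟩} : Set K₀)) := Nat.finite_of_card_ne_zero (by rw [h2]; norm_num)
    rw [← h2]
    exact Nat.card_le_card_of_injective _ (Subgroup.inclusion_injective h1)
  have h1 := f.ker.card_mul_index
  rw [Subgroup.index_ker] at h1
  calc Nat.card D = Nat.card f.ker * Nat.card f.range := h1.symm
    _ ≤ 2 * 23 := Nat.mul_le_mul hker hrange

/-- **`4 ∤ |C(x)|`.** -/
theorem not_four (L : Large Q z) (hQ : Nat.card Q = 2 ^ 23) {K₀ : Type*} [Group K₀]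
    (π : centralizer ({z} : Set G) →* K₀) (hπ : ∀ c, π c = 1 ↔ (c : G) ∈ Q)
    (hK : ∀ y : K₀, orderOf y = 23 → Nat.card (centralizer ({y} : Set K₀)) = 23) {x : G} (hx : orderOf x = 23)
    (hxz : x * z = z * x) : ¬ 4 ∣ Nat.card (centralizer ({x} : Set G)) := by
  intro h4
  have h2 : Fact (Nat.Prime 2) := ⟨Nat.prime_two⟩
  have hD := card_D L hQ π hπ hK hx hxz
  set D : Subgroup G := centralizer {x} ⊓ centralizer {z} with hDdef
  have memD : ∀ d, d ∈ D ↔ d * x = x * d ∧ d * z = z * d := by
    intro d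
    rw [hDdef, mem_inf, mem_centralizer_singleton_iff, mem_centralizer_singleton_iff]
  have hzx : z ∈ centralizer ({x} : Set G) := mem_centralizer_singleton_iff.2 hxz.symm
  have hzo : orderOf z = 2 := orderOf_eq_prime (by rw [pow_two]; exact L.z_sq) L.z_ne
  have hzD : z ∈ D := (memD z).2 ⟨hxz.symm, rfl⟩
  have hxD : x ∈ D := (memD x).2 ⟨rfl, hxz⟩
  have d2 : 2 ∣ Nat.card D := by
    rw [← hzo, ← Subgroup.orderOf_mk z hzD]; exact orderOf_dvd_natCard _
  have d23 : 23 ∣ Nat.card D := by
    rw [← hx, ← Subgroup.orderOf_mk x hxD]; exact orderOf_dvd_natCard _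
  have hpos : 0 < Nat.card D := Nat.card_pos
  have hD46 : Nat.card D = 46 := by
    have h1 : 2 * 23 ∣ Nat.card D := Nat.Coprime.mul_dvd_of_dvd_of_dvd (by norm_num) d2 d23
    have h3 := Nat.le_of_dvd hpos h1
    omega
  -- a Sylow 2-subgroup of `C(x)` which contains `z`
  let zz : centralizer ({x} : Set G) := ⟨z, hzx⟩
  have hpg : IsPGroup 2 (zpowers zz) := IsPGroup.of_card (n := 1) (by
    rw [Nat.card_zpowers, pow_one]
    show orderOf (⟨z, hzx⟩ : centralizer ({x} : Set G)) = 2
    rw [Subgroup.orderOf_mk, hzo])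
  obtain ⟨T, hT⟩ := hpg.exists_le_sylow
  have hzT : zz ∈ (T : Subgroup _) := hT (mem_zpowers zz)
  have hTnt : Nontrivial T := by
    refine ⟨⟨⟨zz, hzT⟩, 1, fun h => L.z_ne ?_⟩⟩
    exact congrArg (fun t : T => ((t : centralizer ({x} : Set G)) : G)) h
  have hcen : Nontrivial (center T) := T.2.center_nontrivial
  obtain ⟨n, hn⟩ := (IsPGroup.iff_card.1 (T.2.to_subgroup (center T)))
  have hn0 : n ≠ 0 := by
    rintro rfl
    rw [pow_zero] at hn
    have := Finite.one_lt_card_iff_nontrivial.2 hcen
    omega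
  obtain ⟨w, hw⟩ := exists_prime_orderOf_dvd_card' (G := center T) 2 (by rw [hn]; exact dvd_pow_self 2 hn0)
  set w0 : centralizer ({x} : Set G) := ((w : T) : centralizer ({x} : Set G)) with hw0
  set w' : G := (w0 : G) with hw'
  have hwo : orderOf w' = 2 := by
    rw [hw', hw0, Subgroup.orderOf_coe, Subgroup.orderOf_coe, Subgroup.orderOf_coe, hw]
  have hwcomm : ∀ t : T, w' * ((t : centralizer ({x} : Set G)) : G) = ((t : centralizer ({x} : Set G)) : G) * w' := by
    intro t
    have h1 := mem_center_iff.1 w.2 t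
    exact (congrArg (fun s : T => ((s : centralizer ({x} : Set G)) : G)) h1).symm
  have hwx : w' * x = x * w' := mem_centralizer_singleton_iff.1 w0.2
  have hwD : w' ∈ D := (memD w').2 ⟨hwx, hwcomm ⟨zz, hzT⟩⟩
  have hwz : w' = z := by
    have hcm : Commute x w' := hwx.symm
    have ho : orderOf (x * w') = 46 := by
      rw [hcm.orderOf_mul_eq_mul_orderOf_of_coprime (by rw [hx, hwo]; norm_num), hx, hwo]
    have h1 : zpowers (x * w') = D := by
      refine Subgroup.eq_of_le_of_card_ge ?_ ?_
      · rw [zpowers_le]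
        exact D.mul_mem hxD hwD
      · rw [Nat.card_zpowers, ho, hD46]
    have h3 : z ∈ zpowers (x * w') := by rw [h1]; exact hzD
    obtain ⟨k, hk⟩ := mem_zpowers_iff.1 h3
    have h5 : z = w' ^ (23 * k) := by
      have e1 : z ^ (23 : ℤ) = z := by
        have e2 : z ^ (2 : ℤ) = 1 := by
          rw [zpow_ofNat, pow_two]; exact L.z_sq
        calc z ^ (23 : ℤ) = (z ^ (2 : ℤ)) ^ (11 : ℤ) * z := by
              rw [← zpow_mul, ← zpow_add_one]; norm_num
          _ = z := by rw [e2, one_zpow, one_mul]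
      have e3 : x ^ (23 * k) = 1 := by
        rw [zpow_mul, zpow_ofNat, ← hx, pow_orderOf_eq_one, one_zpow]
      calc z = z ^ (23 : ℤ) := e1.symm
        _ = ((x * w') ^ k) ^ (23 : ℤ) := by rw [hk]
        _ = (x * w') ^ (23 * k) := by rw [← zpow_mul, mul_comm k]
        _ = x ^ (23 * k) * w' ^ (23 * k) := hcm.mul_zpow _
        _ = w' ^ (23 * k) := by rw [e3, one_mul]
    have h6 : z ∈ zpowers w' := by rw [h5]; exact zpow_mem (mem_zpowers w') _
    have h7 : zpowers z = zpowers w' := by
      refine Subgroup.eq_of_le_of_card_ge (by rw [zpowers_le]; exact h6) ?_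
      rw [Nat.card_zpowers, Nat.card_zpowers, hwo, hzo]
    have h8 : w' ∈ zpowers z := by rw [h7]; exact mem_zpowers w'
    obtain ⟨m, hm⟩ := mem_zpowers_iff.1 h8
    have hw1 : w' ≠ 1 := by
      intro h
      rw [h, orderOf_one] at hwo
      exact absurd hwo (by norm_num)
    have e2 : z ^ (2 : ℤ) = 1 := by
      rw [zpow_ofNat, pow_two]; exact L.z_sq
    rcases Int.even_or_odd' m with ⟨c, rfl | rfl⟩
    · exfalso
      apply hw1
      rw [← hm, zpow_mul, e2, one_zpow]
    · rw [← hm, zpow_add_one, zpow_mul, e2, one_zpow, one_mul]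
  have hTD : (T : Subgroup (centralizer ({x} : Set G))).map (centralizer ({x} : Set G)).subtype ≤ D := by
    rintro _ ⟨t, ht, rfl⟩
    refine (memD _).2 ⟨mem_centralizer_singleton_iff.1 t.2, ?_⟩
    have h1 := hwcomm ⟨t, ht⟩
    rw [hwz] at h1
    exact h1.symm
  have h5 : 2 ^ 2 ∣ Nat.card T := T.pow_dvd_card_of_pow_dvd_card h4
  have h6 : Nat.card T ∣ Nat.card D := by
    have h7 := Subgroup.card_dvd_of_le hTD
    rwa [Subgroup.card_map_of_injective (Subgroup.subtype_injective _)] at h7
  have h8 := h5.trans h6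
  rw [hD46] at h8
  revert h8
  norm_num

end Cfsg.Agent.H570.Ore.Ex
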