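import Cfsg.Agent.H653.Sieve.Check

/-!
# ORE (S2443), row B: the numerical part (helper570)

`n` divides `|B|`, `n ≠ 1`, with residues as for a character of `B` modulo `47, 31, 23, 19, 17`, and `n ∣ 4096 · 11707448673375 · m`
with `1 ≤ m`, `4032 m ≤ n` and `m ≡ 0` or `n` modulo `23`. Then `n ≥ 364344` (`n ≡ ± 1 (31)`), resp. `n ≥ 2337075`
(`n ≡ ± 15 (31)`).
-/

set_option autoImplicit false

namespace Cfsg.Agent.H570.Ore.Num

open Cfsg.Agent.H653.Sieve

/-- some `m = g k`, `1 ≤ k ≤ f`, is `0` or `n` modulo 23 -/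
def exK (n g : ℕ) : ℕ → Bool
  | 0 => false
  | k + 1 => (Nat.beq ((g * (k + 1)) % 23) 0 || Nat.beq ((g * (k + 1)) % 23) (n % 23)) || exK n g k

theorem exK_spec {n g : ℕ} : ∀ {f : ℕ}, exK n g f = false → ∀ k, 1 ≤ k → k ≤ f →
    ¬ ((g * k) % 23 = 0 ∨ (g * k) % 23 = n % 23)
  | 0, _, k, h1, h2 => by omega
  | f + 1, h, k, h1, h2 => by
    rw [exK, Bool.or_eq_false_iff, Bool.or_eq_false_iff] at h
    obtain ⟨⟨h3, h4⟩, h5⟩ := h
    rcases Nat.lt_or_ge k (f + 1) with h6 | h6
    · exact exK_spec h5 k h1 (by omega)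
    · obtain rfl : k = f + 1 := by omega
      rintro (h7 | h7)
      · rw [h7] at h3; exact absurd h3 (by decide)
      · rw [h7, Nat.beq_refl] at h4; exact absurd h4 (by decide)

/-- no `m` -/
def dead (n : ℕ) : Bool := !(exK n (n / Nat.gcd n 47953709766144000) (n / 4032 / (n / Nat.gcd n 47953709766144000)))

theorem dead_spec {n m : ℕ} (hn : 0 < n) (h : dead n = true) (hm1 : 1 ≤ m) (hm : 4032 * m ≤ n)
    (hd : n ∣ 47953709766144000 * m) : ¬ (m % 23 = 0 ∨ m % 23 = n % 23) := by
  unfold dead at h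
  rw [Bool.not_eq_true'] at h
  generalize hg : Nat.gcd n 47953709766144000 = g at h
  have hg0 : 0 < g := by rw [← hg]; exact Nat.gcd_pos_of_pos_left _ hn
  have hgn : g ∣ n := by rw [← hg]; exact Nat.gcd_dvd_left _ _
  have hgw : g ∣ 47953709766144000 := by rw [← hg]; exact Nat.gcd_dvd_right _ _
  have hcop : Nat.Coprime (n / g) (47953709766144000 / g) := by
    rw [← hg]
    exact Nat.coprime_div_gcd_div_gcd (by rw [hg]; exact hg0)
  have h1 : n / g ∣ (47953709766144000 / g) * m := by
    have h2 : g * (n / g) ∣ g * ((47953709766144000 / g) * m) := by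
      rw [← mul_assoc, Nat.mul_div_cancel' hgn, Nat.mul_div_cancel' hgw]
      exact hd
    exact Nat.dvd_of_mul_dvd_mul_left hg0 h2
  have h3 : n / g ∣ m := hcop.dvd_of_dvd_mul_left h1
  obtain ⟨k, rfl⟩ := h3
  have hq0 : 0 < n / g := Nat.div_pos (Nat.le_of_dvd hn hgn) hg0
  refine exK_spec h k ?_ ?_
  · rcases Nat.eq_zero_or_pos k with h | h
    · rw [h, mul_zero] at hm1; omega
    · exact h
  · rw [Nat.le_div_iff_mul_le hq0, Nat.le_div_iff_mul_le (by norm_num)]
    calc k * (n / g) * 4032 = 4032 * (n / g * k) := by ring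
      _ ≤ n := hm

/-- residue `0` or `± 1` -/
def r3 (p n : ℕ) : Bool := (Nat.beq (n % p) 0 || Nat.beq (n % p) 1) || Nat.beq (n % p) (p - 1)

/-- residue `± e` -/
def r2 (p e n : ℕ) : Bool := Nat.beq (n % p) e || Nat.beq (n % p) (p - e)

/-- the test -/
def chk (n : ℕ) : Bool :=
  bif Nat.beq n 1 then true else
  bif r2 31 1 n then
    bif Nat.ble 364344 n then true else
    bif !(r3 47 n || r2 47 23 n) then true else
    bif !(r3 23 n || r2 23 11 n) then true else
    bif !(r3 19 n) then true else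
    bif !(r3 17 n || r2 17 2 n) then true else dead n
  else bif r2 31 15 n then
    bif !(r3 47 n) then true else
    bif !(r3 23 n) then true else
    bif !(r3 19 n) then true else
    bif !(r3 17 n || r2 17 2 n) then true else dead n
  else true

def L : List (ℕ × ℕ) := [(47, 1), (31, 1), (23, 1), (19, 1), (17, 1), (13, 1), (11, 1), (7, 2), (5, 6), (3, 13), (2, 41)]

set_option maxRecDepth 100000 in
theorem check : allDiv (2337075 * 2337075) chk L 1 = true := by decide +kernel

theorem fac : facProd L = 4154781481226426191177580544000000 := by decide +kernel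

theorem L_prime : ∀ pa ∈ L, pa.1.Prime := by
  intro pa hpa
  simp only [L, List.mem_cons, List.not_mem_nil, or_false] at hpa
  rcases hpa with rfl | rfl | rfl | rfl | rfl | rfl | rfl | rfl | rfl | rfl | rfl <;> norm_num

theorem r3_spec {p n : ℕ} (h : n % p = 0 ∨ n % p = 1 ∨ n % p = p - 1) : r3 p n = true := by
  unfold r3
  rw [Bool.or_eq_true, Bool.or_eq_true, Nat.beq_eq, Nat.beq_eq, Nat.beq_eq]
  tauto

theorem r2_spec {p e n : ℕ} : (n % p = e ∨ n % p = p - e) ↔ r2 p e n = true := by
  unfold r2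
  rw [Bool.or_eq_true, Nat.beq_eq, Nat.beq_eq]

/-- **The numerical statement.** -/
theorem num {n : ℕ} (hn : n ∣ 4154781481226426191177580544000000) (h1 : n ≠ 1)
    (h47 : r3 47 n = true ∨ r2 47 23 n = true) (h23 : r3 23 n = true ∨ r2 23 11 n = true) (h19 : r3 19 n = true)
    (h17 : r3 17 n = true ∨ r2 17 2 n = true)
    (hreal : r2 31 15 n = true → r3 47 n = true ∧ r3 23 n = true)
    {m : ℕ} (hm1 : 1 ≤ m) (hm : 4032 * m ≤ n) (hd : n ∣ 47953709766144000 * m)
    (hm23 : m % 23 = 0 ∨ m % 23 = n % 23) :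
    (r2 31 1 n = true → 364344 ≤ n) ∧ (r2 31 15 n = true → 2337075 ≤ n) := by
  have hn0 : 0 < n := Nat.pos_of_dvd_of_pos hn (by norm_num)
  have key : n < 2337075 → chk n = true := by
    intro h
    have h2 := allDiv_spec L_prime check n (by rw [fac]; exact hn) (by rw [one_mul]; exact Nat.mul_self_lt_mul_self h)
    rwa [one_mul] at h2
  have hdead : dead n ≠ true := fun h => dead_spec hn0 h hm1 hm hd hm23
  have hb1 : Nat.beq n 1 = false := by
    rw [Bool.eq_false_iff]
    intro h
    exact h1 (Nat.eq_of_beq_eq_true h)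
  have h47' : (!(r3 47 n || r2 47 23 n)) = false := by
    rcases h47 with h | h <;> rw [h] <;> simp
  have h23' : (!(r3 23 n || r2 23 11 n)) = false := by
    rcases h23 with h | h <;> rw [h] <;> simp
  have h17' : (!(r3 17 n || r2 17 2 n)) = false := by
    rcases h17 with h | h <;> rw [h] <;> simp
  have h19' : (!(r3 19 n)) = false := by rw [h19]; rfl
  constructor
  · intro h31
    by_contra hlt
    have h2 := key (by omega)
    have h3 : Nat.ble 364344 n = false := by
      rw [Bool.eq_false_iff]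
      intro h
      exact hlt (Nat.le_of_ble_eq_true h)
    rw [chk, hb1, h31, h3, h47', h23', h19', h17'] at h2
    simp only [cond_false, cond_true] at h2
    exact hdead h2
  · intro h31
    by_contra hlt
    have h2 := key (by omega)
    obtain ⟨h4, h5⟩ := hreal h31
    have h4' : (!(r3 47 n)) = false := by rw [h4]; rfl
    have h5' : (!(r3 23 n)) = false := by rw [h5]; rfl
    have h6 : r2 31 1 n = false := by
      rw [Bool.eq_false_iff]
      intro h
      have h7 := r2_spec.2 h
      have h8 := r2_spec.2 h31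
      omega
    rw [chk, hb1, h6, h31, h4', h5', h19', h17'] at h2
    simp only [cond_false, cond_true] at h2
    exact hdead h2

end Cfsg.Agent.H570.Ore.Num
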